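import Mathlib
import Cfsg.Prelude.Def_LieTypeDatum
import Cfsg.Agent.AutPSL.Induced
import Cfsg.Agent.AutPSL.FiniteField
import Cfsg.Agent.Lib.Unitary.Generation
import Cfsg.Agent.Lib.Unitary.Center

/-!
Semilinear isometries and their action on the elements `Qel u w b` of `SU_n(q)` (helper60).
-/

set_option autoImplicit false

namespace Cfsg.Agent.AutPSU

open Matrix Cfsg.Agent.Unitary
open Cfsg.Agent.AutPSL (fieldMap act act_apply act_coe Normalises Induced)

universe u

variable {n q : ℕ} {F : Type u} [Field F]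

/-- The inclusion `SU_n → GL_n`. -/
def rho (n : ℕ) (F : Type u) [Field F] (q : ℕ) : SU n F q →* GL (Fin n) F :=
  Matrix.SpecialLinearGroup.toGL.comp (SU n F q).subtype

theorem rho_smul (s : SU n F q) (v : Fin n → F) : rho n F q s • v = s • v := rfl

theorem rho_injective : Function.Injective (rho n F q) := fun a b h =>
  Subtype.ext (Subtype.ext (congrArg Units.val h))

/-- The quotient map. -/
def piU (n : ℕ) (F : Type u) [Field F] (q : ℕ) : SU n F q →* PSU n F q :=
  QuotientGroup.mk' _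

/-- The semilinear map `v ↦ g σ(v)`. -/
def app (g : GL (Fin n) F) (σ : F ≃+* F) (v : Fin n → F) : Fin n → F := g • (⇑σ ∘ v)

theorem app_add (g : GL (Fin n) F) (σ : F ≃+* F) (v w : Fin n → F) :
    app g σ (v + w) = app g σ v + app g σ w := by
  have h : (⇑σ ∘ (v + w)) = (⇑σ ∘ v) + (⇑σ ∘ w) := funext fun i => map_add σ _ _
  rw [app, h, smul_add]; rfl

theorem app_smul (g : GL (Fin n) F) (σ : F ≃+* F) (c : F) (v : Fin n → F) :
    app g σ (c • v) = σ c • app g σ v := by
  have h : (⇑σ ∘ (c • v)) = σ c • (⇑σ ∘ v) := funext fun i => map_mul σ _ _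
  rw [app, h]
  exact Matrix.mulVec_smul _ _ _

theorem app_sub (g : GL (Fin n) F) (σ : F ≃+* F) (v w : Fin n → F) :
    app g σ (v - w) = app g σ v - app g σ w := by
  rw [eq_sub_iff_add_eq, ← app_add, sub_add_cancel]

theorem app_surjective (g : GL (Fin n) F) (σ : F ≃+* F) : Function.Surjective (app g σ) := by
  intro y
  refine ⟨⇑σ.symm ∘ (g⁻¹ • y), ?_⟩
  have h : (⇑σ ∘ (⇑σ.symm ∘ (g⁻¹ • y))) = g⁻¹ • y := funext fun i => σ.apply_symm_apply _
  rw [app, h, smul_inv_smul]

theorem app_act (g : GL (Fin n) F) (σ : F ≃+* F) (x : GL (Fin n) F) (v : Fin n → F) :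
    act g σ x • app g σ v = app g σ (x • v) := by
  have h : (fieldMap σ x) • (⇑σ ∘ v) = ⇑σ ∘ (x • v) := by
    funext i
    show ((x : Matrix (Fin n) (Fin n) F).map σ *ᵥ (⇑σ ∘ v)) i = σ ((x • v) i)
    exact (RingHom.map_mulVec (σ : F →+* F) _ v i).symm
  rw [act_apply, app, mul_smul, mul_smul, inv_smul_smul, h]; rfl

theorem herm_comp (σ : F ≃+* F) (x y : Fin n → F) :
    herm q (⇑σ ∘ x) (⇑σ ∘ y) = σ (herm q x y) := by
  simp [herm, hermForm, map_sum, map_mul, map_pow]

variable [Fintype F]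

theorem herm_app {g : GL (Fin n) F} (hg : g ∈ GU n F q) (σ : F ≃+* F) (x y : Fin n → F) :
    herm q (app g σ x) (app g σ y) = σ (herm q x y) :=
  (mem_GU_iff.mp hg _ _).trans (herm_comp σ x y)

theorem normalises_psu {g : GL (Fin n) F} (hg : g ∈ GU n F q) (σ : F ≃+* F) :
    Normalises (rho n F q) g σ := by
  intro s
  have hdet : (act g σ (rho n F q s) : Matrix (Fin n) (Fin n) F).det = 1 := by
    rw [act_coe, Matrix.det_units_conj]
    show (σ.mapMatrix ((s : Matrix.SpecialLinearGroup (Fin n) F) : Matrix (Fin n) (Fin n) F)).det = 1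
    rw [← RingEquiv.map_det, s.1.2, map_one]
  refine ⟨⟨⟨_, hdet⟩, ?_⟩, Units.ext rfl⟩
  intro x y
  obtain ⟨x, rfl⟩ := app_surjective g σ x
  obtain ⟨y, rfl⟩ := app_surjective g σ y
  show herm q (act g σ (rho n F q s) • app g σ x) (act g σ (rho n F q s) • app g σ y) =
    herm q (app g σ x) (app g σ y)
  rw [app_act, app_act, herm_app hg, herm_app hg, rho_smul, rho_smul, herm_smul_SU]

/-- `β` is induced by `v ↦ g σ(v)`. -/
abbrev IsSemi (g : GL (Fin n) F) (σ : F ≃+* F) (β : MulAut (PSU n F q)) : Prop :=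
  Induced (rho n F q) g σ β

theorem isSemi_iff (g : GL (Fin n) F) (σ : F ≃+* F) (β : MulAut (PSU n F q)) :
    IsSemi g σ β ↔ Cfsg.IsInducedBySemilinearPSU g σ β :=
  ⟨fun h s s' hs => h s s' (Units.ext hs), fun h s s' hs => h s s' (congrArg Units.val hs)⟩

theorem isInnerDiagonal_iff (β : MulAut (PSU n F q)) :
    Cfsg.IsInnerDiagonalAutPSU β ↔ ∃ g : GL (Fin n) F, g ∈ GU n F q ∧ IsSemi g 1 β := by
  constructor
  · rintro ⟨g, hg, h⟩
    exact ⟨g, hg, fun s s' hs => h s s' (congrArg Units.val hs)⟩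
  · rintro ⟨g, hg, h⟩
    exact ⟨g, hg, fun s s' hs => h s s' (Units.ext hs)⟩

theorem isFieldAut_iff (σ : F ≃+* F) (β : MulAut (PSU n F q)) :
    Cfsg.IsFieldAutPSUOf σ β ↔ IsSemi 1 σ β := by
  constructor
  · intro h s s' hs
    refine h s s' ?_
    have h2 := congrArg Units.val hs
    rw [act_coe, inv_one, Units.val_one, Matrix.one_mul, Matrix.mul_one] at h2
    exact h2
  · intro h s s' hs
    refine h s s' (Units.ext ?_)
    rw [act_coe, inv_one, Units.val_one, Matrix.one_mul, Matrix.mul_one]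
    exact hs

variable (hF : Fintype.card F = q ^ 2)

/-- A hyperbolic pair. -/
structure HPair (q : ℕ) (e f : Fin n → F) : Prop where
  ee : herm q e e = 0
  ff : herm q f f = 0
  ef : herm q e f = 1

/-- The orthogonal complement of a pair. -/
def Orth2 (q : ℕ) (e f w : Fin n → F) : Prop := herm q w e = 0 ∧ herm q w f = 0

/-- The projection to the complement of a pair. -/
def prj (q : ℕ) (e f x : Fin n → F) : Fin n → F := x - (herm q x f • e + herm q x e • f)

theorem app_Qel {g : GL (Fin n) F} (hg : g ∈ GU n F q) {σ : F ≃+* F} {u w : Fin n → F} {b : F}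
    {hu : herm q u u = 0} {hwu : herm q w u = 0} {hb : b + b ^ q = -herm q w w} {u' w' : Fin n → F}
    {b' : F} {hu' : herm q u' u' = 0} {hwu' : herm q w' u' = 0}
    {hb' : b' + b' ^ q = -herm q w' w'} {s' : SU n F q}
    (hs : rho n F q s' = act g σ (rho n F q (Qel hF hu hwu hb))) (eu : app g σ u = u')
    (ew : app g σ w = w') (eb : σ b = b') : s' = Qel hF hu' hwu' hb' := by
  subst eu ew eb
  refine eq_of_smul_eq_SU fun x => ?_
  obtain ⟨x, rfl⟩ := app_surjective g σ x
  rw [← rho_smul, hs, app_act, rho_smul, Qel_smul, Qel_smul, herm_app hg, herm_app hg, app_add,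
    app_add, app_sub, app_smul, app_smul, app_smul, map_mul]

theorem IsSemi.map_Qel {g : GL (Fin n) F} (hg : g ∈ GU n F q) {σ : F ≃+* F}
    {β : MulAut (PSU n F q)} (hβ : IsSemi g σ β) {u w : Fin n → F} {b : F}
    {hu : herm q u u = 0} {hwu : herm q w u = 0} {hb : b + b ^ q = -herm q w w} {u' w' : Fin n → F}
    {b' : F} {hu' : herm q u' u' = 0} {hwu' : herm q w' u' = 0}
    {hb' : b' + b' ^ q = -herm q w' w'} (eu : app g σ u = u') (ew : app g σ w = w') (eb : σ b = b') :
    β (piU n F q (Qel hF hu hwu hb)) = piU n F q (Qel hF hu' hwu' hb') := by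
  obtain ⟨s', hs⟩ := normalises_psu hg σ (Qel hF hu hwu hb)
  exact (hβ _ _ hs).trans (congrArg _ (app_Qel hF hg hs eu ew eb))

theorem conj_Qel (k : SU n F q) {u w : Fin n → F} {b : F}
    (hu : herm q u u = 0) (hwu : herm q w u = 0) (hb : b + b ^ q = -herm q w w) :
    k * Qel hF hu hwu hb * k⁻¹ = Qel hF (u := k • u) (w := k • w) (b := b)
      ((herm_smul_SU k u u).trans hu) ((herm_smul_SU k w u).trans hwu)
      (by rw [herm_smul_SU]; exact hb) := by
  refine eq_of_smul_eq_SU fun x => ?_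
  obtain ⟨x, rfl⟩ : ∃ y, k • y = x := ⟨k⁻¹ • x, smul_inv_smul k x⟩
  rw [mul_smul, mul_smul, inv_smul_smul, Qel_smul, Qel_smul, herm_smul_SU, herm_smul_SU]
  simp only [smul_add, smul_sub, smul_comm k]

include hF

theorem HPair.fe {e f : Fin n → F} (h : HPair q e f) : herm q f e = 1 := herm_one_swap hF h.ef

omit hF in
theorem HPair.e_ne {e f : Fin n → F} (h : HPair q e f) : e ≠ 0 := fun hz => by
  simpa [hz] using h.ef

theorem HPair.swap {e f : Fin n → F} (h : HPair q e f) : HPair q f e := ⟨h.ff, h.ee, h.fe hF⟩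

omit hF in
theorem Orth2.swap {e f w : Fin n → F} (h : Orth2 q e f w) : Orth2 q f e w := ⟨h.2, h.1⟩

theorem Orth2.left {e f w : Fin n → F} (h : Orth2 q e f w) :
    herm q e w = 0 ∧ herm q f w = 0 :=
  ⟨(herm_eq_zero_comm hF).1 h.1, (herm_eq_zero_comm hF).1 h.2⟩

theorem orth2_prj {e f : Fin n → F} (h : HPair q e f) (x : Fin n → F) :
    Orth2 q e f (prj q e f x) := by
  constructor <;>
    · simp only [prj, herm_sub_left, herm_add_left, herm_smul_left, h.ee, h.ff, h.ef, h.fe hF]
      ring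

theorem prj_add (e f x y : Fin n → F) : prj q e f (x + y) = prj q e f x + prj q e f y := by
  simp only [prj, herm_add_left]; module

omit hF [Fintype F] in
theorem prj_smul (e f : Fin n → F) (c : F) (x : Fin n → F) :
    prj q e f (c • x) = c • prj q e f x := by
  simp only [prj, herm_smul_left]; module

omit hF [Fintype F] in
theorem eq_prj (e f x : Fin n → F) : x = herm q x f • e + herm q x e • f + prj q e f x := by
  simp only [prj]; abel

omit hF [Fintype F] in
theorem prj_of_orth2 {e f w : Fin n → F} (h : Orth2 q e f w) : prj q e f w = w := by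
  simp [prj, h.1, h.2]

theorem Qel_e {e f w : Fin n → F} {b : F} (h : HPair q e f) (hw : Orth2 q e f w)
    (hb : b + b ^ q = -herm q w w) : Qel hF h.ee hw.1 hb • e = e := by
  rw [Qel_smul, h.ee, (hw.left hF).1]; simp

theorem Qel_f {e f w : Fin n → F} {b : F} (h : HPair q e f) (hw : Orth2 q e f w)
    (hb : b + b ^ q = -herm q w w) : Qel hF h.ee hw.1 hb • f = f + w + b • e := by
  rw [Qel_smul, h.fe hF, (hw.left hF).2]
  simp [add_assoc]

/-- `Qel e w b` with `w` orthogonal to the pair determines `w` and `b`. -/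
theorem Qel_inj {e f w w' : Fin n → F} {b b' : F} (h : HPair q e f) (hw : Orth2 q e f w)
    (hw' : Orth2 q e f w') {hb : b + b ^ q = -herm q w w} {hb' : b' + b' ^ q = -herm q w' w'}
    (he : Qel hF h.ee hw.1 hb = Qel hF h.ee hw'.1 hb') : w = w' ∧ b = b' := by
  have h1 := congrArg (fun k : SU n F q => k • f) he
  simp only [Qel_f hF h hw, Qel_f hF h hw', add_assoc, add_right_inj] at h1
  have h2 := congrArg (fun x => herm q x f) h1
  simp only [herm_add_left, herm_smul_left, hw.2, hw'.2, h.ef, zero_add, mul_one] at h2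
  subst h2
  exact ⟨add_right_cancel h1, rfl⟩

/-- An eigenvector of `Qel` has eigenvalue one. -/
theorem Qel_eigen {u w : Fin n → F} {b : F} (hu : herm q u u = 0) (hwu : herm q w u = 0)
    (hb : b + b ^ q = -herm q w w) {x : Fin n → F} (hx : x ≠ 0) {a : F}
    (he : Qel hF hu hwu hb • x = a • x) : a = 1 := by
  by_contra ha
  have h1 : a - 1 ≠ 0 := sub_ne_zero.2 ha
  have huw : herm q u w = 0 := (herm_eq_zero_comm hF).1 hwu
  rw [Qel_smul] at he
  have h2 := congrArg (fun z => herm q z u) he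
  simp only [herm_add_left, herm_sub_left, herm_smul_left, hu, hwu] at h2
  have h3 : herm q x u = 0 := by
    refine (mul_eq_zero.1 (show (a - 1) * herm q x u = 0 by linear_combination -h2)).resolve_left h1
  simp only [h3, zero_smul, mul_zero, zero_sub, add_zero] at he
  have h4 : (a - 1) • x = -(herm q x w • u) := by
    rw [sub_smul, one_smul, ← he]; abel
  have h5 : herm q x w = 0 := by
    have := congrArg (fun z => herm q z w) h4
    simp only [herm_smul_left, herm_neg_left, huw, mul_zero, neg_zero] at this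
    exact (mul_eq_zero.1 this).resolve_left h1
  rw [h5, zero_smul, neg_zero, smul_eq_zero] at h4
  exact h4.elim h1 hx

theorem piU_eq_iff (hn : 2 ≤ n) {s t : SU n F q} :
    piU n F q s = piU n F q t ↔ ∃ r : F, ∀ x : Fin n → F, t • x = r • (s • x) := by
  rw [piU, QuotientGroup.mk'_apply, QuotientGroup.mk'_apply, QuotientGroup.eq,
    mem_center_iff hF hn]
  constructor
  · rintro ⟨r, hr⟩
    refine ⟨r, fun x => ?_⟩
    have h := hr x
    rw [mul_smul, inv_smul_eq_iff, smul_comm s r] at h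
    exact h
  · rintro ⟨r, hr⟩
    exact ⟨r, fun x => by rw [mul_smul, hr, smul_comm, inv_smul_smul]⟩

theorem piU_Qel_eq (hn : 2 ≤ n) {u u' w w' : Fin n → F} {b b' : F} {hu : herm q u u = 0}
    {hwu : herm q w u = 0} {hb : b + b ^ q = -herm q w w} {hu' : herm q u' u' = 0}
    {hwu' : herm q w' u' = 0} {hb' : b' + b' ^ q = -herm q w' w'} (h0 : u' ≠ 0)
    (h : piU n F q (Qel hF hu hwu hb) = piU n F q (Qel hF hu' hwu' hb')) :
    Qel hF hu hwu hb = Qel hF hu' hwu' hb' := by
  obtain ⟨r, hr⟩ := (piU_eq_iff hF hn).1 h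
  have huw' : herm q u' w' = 0 := (herm_eq_zero_comm hF).1 hwu'
  have e1 : Qel hF hu' hwu' hb' • u' = u' := by rw [Qel_smul, hu', huw']; simp
  have e2 := hr u'
  rw [e1] at e2
  have hr0 : r ≠ 0 := fun hz => h0 (by rw [e2, hz, zero_smul])
  have e3 : Qel hF hu hwu hb • u' = r⁻¹ • u' := by
    conv_rhs => rw [e2, smul_smul, inv_mul_cancel₀ hr0, one_smul]
  have hr1 : r = 1 := inv_eq_one.1 (Qel_eigen hF hu hwu hb h0 e3)
  refine eq_of_smul_eq_SU fun x => ?_
  rw [hr x, hr1, one_smul]

theorem rescale_cond {w : Fin n → F} {b a : F} (hb : b + b ^ q = -herm q w w) :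
    a * a ^ q * b + (a * a ^ q * b) ^ q = -herm q (a ^ q • w) (a ^ q • w) := by
  have hn : (a * a ^ q) ^ q = a * a ^ q := by rw [mul_pow, pow_q_pow_q hF, mul_comm]
  rw [mul_pow, hn, herm_smul_left, herm_smul_right hF, pow_q_pow_q hF]
  linear_combination (a * a ^ q) * hb

theorem Qel_rescale {e w : Fin n → F} {a b : F} (he : herm q e e = 0) (hwe : herm q w e = 0)
    (hb : b + b ^ q = -herm q w w) (hae : herm q (a • e) (a • e) = 0)
    (hwae : herm q w (a • e) = 0) :
    Qel hF hae hwae hb = Qel hF (w := a ^ q • w) (b := a * a ^ q * b) he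
      (by rw [herm_smul_left, hwe, mul_zero]) (rescale_cond hF hb) := by
  refine eq_of_smul_eq_SU fun x => ?_
  simp only [Qel_smul, herm_smul_right hF, pow_q_pow_q hF]
  match_scalars <;> ring

end Cfsg.Agent.AutPSU
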