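import Mathlib
import Cfsg.Agent.AutPSU.Basic

/-!
The Levi factor of the stabiliser of a hyperbolic pair in `SU_n(q)` (helper60).
-/

set_option autoImplicit false

namespace Cfsg.Agent.AutPSU

open Matrix Cfsg.Agent.Unitary

universe u

variable {n q : ℕ} {F : Type u} [Field F] [Fintype F] (hF : Fintype.card F = q ^ 2)

include hF

theorem two_ne_one_pow : (q + 1) ≠ 2 := by have := two_le_q hF; omega

theorem exists_pow_sub_one {c : Fˣ} (hc : c ^ (q + 1) = 1) : ∃ l : Fˣ, l ^ (q - 1) = c := by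
  have hq := two_le_q hF
  have hsq : q ^ 2 - 1 = (q + 1) * (q - 1) := by rw [← Nat.sq_sub_sq, one_pow]
  have hle : (powMonoidHom (q - 1) : Fˣ →* Fˣ).range ≤ (powMonoidHom (q + 1) : Fˣ →* Fˣ).ker := by
    rintro _ ⟨a, rfl⟩
    rw [MonoidHom.mem_ker]
    show (a ^ (q - 1)) ^ (q + 1) = 1
    rw [← pow_mul, mul_comm, ← hsq, ← hF, ← Nat.card_eq_fintype_card, ← Nat.card_units,
      pow_card_eq_one']
  have heq := Subgroup.eq_of_le_of_card_ge hle (by
    rw [card_norm_one_units hF, IsCyclic.card_powMonoidHom_range, Nat.card_units,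
      Nat.card_eq_fintype_card, hF, hsq, Nat.gcd_mul_left_left]
    exact (Nat.mul_div_cancel _ (by omega)).ge)
  have : c ∈ (powMonoidHom (q + 1) : Fˣ →* Fˣ).ker := hc
  rw [← heq] at this
  exact this

/-- An element of `F` of norm one different from `1` whose square is not `1`. -/
theorem exists_norm_one : ∃ a : F, a * a ^ q = 1 ∧ a ≠ 0 ∧ a ^ 2 ≠ 1 := by
  have hq := two_le_q hF
  obtain ⟨g, hg⟩ := IsCyclic.exists_ofOrder_eq_natCard (α := (powMonoidHom (q + 1) : Fˣ →* Fˣ).ker)
  rw [card_norm_one_units hF] at hg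
  refine ⟨((g : Fˣ) : F), ?_, Units.ne_zero _, ?_⟩
  · rw [← pow_succ']
    exact congrArg Units.val g.2
  · intro h
    have h2 : g ^ 2 = 1 := Subtype.ext (Units.ext (by simpa using h))
    have := Nat.le_of_dvd (by omega) (hg ▸ orderOf_dvd_of_pow_eq_one h2)
    omega

/-- An element of `F` of norm one whose cube is not `1`, for `q ≠ 2`. -/
theorem exists_norm_one_cube (hq2 : q ≠ 2) : ∃ a : F, a * a ^ q = 1 ∧ a ≠ 0 ∧ a ^ 3 ≠ 1 := by
  have hq := two_le_q hF
  obtain ⟨g, hg⟩ := IsCyclic.exists_ofOrder_eq_natCard (α := (powMonoidHom (q + 1) : Fˣ →* Fˣ).ker)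
  rw [card_norm_one_units hF] at hg
  refine ⟨((g : Fˣ) : F), ?_, Units.ne_zero _, ?_⟩
  · rw [← pow_succ']
    exact congrArg Units.val g.2
  · intro h
    have h2 : g ^ 3 = 1 := Subtype.ext (Units.ext (by simpa using h))
    have := Nat.le_of_dvd (by omega) (hg ▸ orderOf_dvd_of_pow_eq_one h2)
    omega

omit [Fintype F] hF in
theorem det_one_add_vecMulVec (a b : Fin n → F) :
    (1 + Matrix.vecMulVec a b).det = 1 + b ⬝ᵥ a := by
  rw [Matrix.vecMulVec_eq Unit, Matrix.det_one_add_replicateCol_mul_replicateRow]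

omit hF in
theorem dot_pow (x y : Fin n → F) : (fun j => y j ^ q) ⬝ᵥ x = herm q x y := by
  rw [dotProduct_comm]; rfl

/-- `e ↦ λ e`, `f ↦ λ^{-q} f`, the identity on the complement. -/
theorem exists_diag {e f : Fin n → F} (h : HPair q e f) {l : F} (hl : l ≠ 0) :
    ∃ D : GU n F q, ((D : GL (Fin n) F) : Matrix (Fin n) (Fin n) F).det = l * (l ^ q)⁻¹ ∧
      D • e = l • e ∧ D • f = (l ^ q)⁻¹ • f ∧ ∀ w, Orth2 q e f w → D • w = w := by
  set A : Matrix (Fin n) (Fin n) F := 1 + Matrix.vecMulVec ((l - 1) • e) (fun j => f j ^ q)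
  set B : Matrix (Fin n) (Fin n) F :=
    1 + Matrix.vecMulVec (((l ^ q)⁻¹ - 1) • f) (fun j => e j ^ q)
  have happ : ∀ x : Fin n → F, (A * B) *ᵥ x =
      x + (((l - 1) * herm q x f) • e + (((l ^ q)⁻¹ - 1) * herm q x e) • f) := by
    intro x
    simp only [A, B, ← Matrix.mulVec_mulVec, Matrix.add_mulVec, Matrix.one_mulVec,
      Matrix.vecMulVec_mulVec, dot_pow, op_smul_eq_smul, smul_smul, herm_add_left, herm_smul_left,
      h.ff, mul_zero, add_zero]
    module
  have hlq : l ^ q ≠ 0 := pow_ne_zero _ hl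
  have hform : ∀ x y, herm q ((A * B) *ᵥ x) ((A * B) *ᵥ y) = herm q x y := by
    intro x y
    simp only [happ, herm_add_left, herm_add_right hF, herm_smul_left, herm_smul_right hF, h.ee,
      h.ff, h.ef, h.fe hF, mul_pow, sub_pow_q hF, one_pow, inv_pow, pow_q_pow_q hF,
      ← herm_swap hF y e, ← herm_swap hF y f]
    field_simp
    ring
  refine ⟨mkGU hF (A * B) hform, ?_, ?_, ?_, ?_⟩
  · show (A * B).det = _
    rw [Matrix.det_mul, det_one_add_vecMulVec, det_one_add_vecMulVec, dot_pow, dot_pow,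
      herm_smul_left, herm_smul_left, h.ef, h.fe hF]
    ring
  · rw [mkGU_smul, happ, h.ef, h.ee]; module
  · rw [mkGU_smul, happ, h.ff, h.fe hF]; module
  · intro w hw
    rw [mkGU_smul, happ, hw.1, hw.2]; simp

theorem orth2_smul_fix {e f : Fin n → F} {A : GU n F q} (he : A • e = e) (hf : A • f = f)
    {w : Fin n → F} (hw : Orth2 q e f w) : Orth2 q e f (A • w) := by
  constructor
  · have := herm_smul_GU A w e
    rw [he] at this; exact this.trans hw.1
  · have := herm_smul_GU A w f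
    rw [hf] at this; exact this.trans hw.2

/-- Every isometry of the complement extends to an element of `SU`. -/
theorem exists_levi {e f : Fin n → F} (h : HPair q e f) {A : GU n F q} (he : A • e = e)
    (hf : A • f = f) {l : F} (hl : l ≠ 0)
    (hdet : ((A : GL (Fin n) F) : Matrix (Fin n) (Fin n) F).det * (l * (l ^ q)⁻¹) = 1) :
    ∃ s : SU n F q, s • e = l • e ∧ s • f = (l ^ q)⁻¹ • f ∧
      ∀ w, Orth2 q e f w → s • w = A • w := by
  obtain ⟨D, hD, hDe, hDf, hDw⟩ := exists_diag hF h hl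
  refine ⟨⟨⟨((A * D : GU n F q) : GL (Fin n) F).1, ?_⟩, (A * D).2⟩, ?_, ?_, ?_⟩
  · rw [Subgroup.coe_mul, Units.val_mul, Matrix.det_mul, hD, hdet]
  · show (A * D) • e = _
    rw [mul_smul, hDe, smul_comm, he]
  · show (A * D) • f = _
    rw [mul_smul, hDf, smul_comm, hf]
  · intro w hw
    show (A * D) • w = _
    rw [mul_smul, hDw w hw]

theorem exists_levi' {e f : Fin n → F} (h : HPair q e f) {A : GU n F q} (he : A • e = e)
    (hf : A • f = f) :
    ∃ (l : F) (s : SU n F q), l ≠ 0 ∧ s • e = l • e ∧ s • f = (l ^ q)⁻¹ • f ∧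
      ∀ w, Orth2 q e f w → s • w = A • w := by
  have hd : detGU A ^ (q + 1) = 1 := Units.ext (by simpa using det_norm hF A)
  obtain ⟨l, hl⟩ := exists_pow_sub_one hF hd
  have hl' : (l : F) ^ (q - 1) = ((A : GL (Fin n) F) : Matrix (Fin n) (Fin n) F).det := by
    rw [← coe_detGU, ← hl]; simp
  obtain ⟨s, hs⟩ := exists_levi hF h he hf l.ne_zero (by
    rw [← hl', pow_q_sub_one hF l.ne_zero]
    have := l.ne_zero
    field_simp)
  exact ⟨l, s, l.ne_zero, hs⟩

/-! ### Monomial isometries -/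

theorem exists_diagonal (d : Fin n → F) (hd : ∀ i, d i * d i ^ q = 1) :
    ∃ A : GU n F q, ((A : GL (Fin n) F) : Matrix (Fin n) (Fin n) F).det = ∏ i, d i ∧
      ∀ x : Fin n → F, A • x = fun i => d i * x i := by
  refine ⟨mkGU hF (Matrix.diagonal d) ?_, ?_, ?_⟩
  · intro x y
    simp only [herm, hermForm, Matrix.mulVec_diagonal, mul_pow]
    refine Finset.sum_congr rfl fun i _ => ?_
    linear_combination (x i * y i ^ q) * hd i
  · exact Matrix.det_diagonal
  · intro x
    rw [mkGU_smul]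
    funext i
    rw [Matrix.mulVec_diagonal]

theorem exists_perm (π : Equiv.Perm (Fin n)) :
    ∃ A : GU n F q, ∀ x : Fin n → F, A • x = x ∘ π := by
  have happ : ∀ x : Fin n → F, (π.toPEquiv.toMatrix : Matrix (Fin n) (Fin n) F) *ᵥ x = x ∘ π :=
    fun x => PEquiv.toMatrix_toPEquiv_mulVec π x
  refine ⟨mkGU hF π.toPEquiv.toMatrix ?_, fun x => by rw [mkGU_smul, happ]⟩
  intro x y
  rw [happ, happ]
  exact Equiv.sum_comp π fun i => x i * y i ^ q

/-- The complement of the pair is the coordinate subspace of `supp S`. -/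
def Frame (q : ℕ) (S : Finset (Fin n)) (e f : Fin n → F) : Prop :=
  ∀ w : Fin n → F, Orth2 q e f w ↔ w ∈ supp S

theorem Frame.eq_zero_of_notMem {S : Finset (Fin n)} {e f : Fin n → F} (hS : Frame q S e f)
    {k : Fin n} (hk : k ∉ S) : e k = 0 ∧ f k = 0 := by
  have h := (hS (eI k)).2 (eI_mem_supp hk)
  rw [Orth2, herm_eI_left, herm_eI_left, pow_q_eq_zero_iff hF, pow_q_eq_zero_iff hF] at h
  exact h

theorem Frame.diag_fix {S : Finset (Fin n)} {e f : Fin n → F} (hS : Frame q S e f)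
    {d : Fin n → F} (hd : ∀ i ∈ S, d i = 1) :
    (fun i => d i * e i) = e ∧ (fun i => d i * f i) = f := by
  constructor <;>
  · funext i
    by_cases hi : i ∈ S
    · rw [hd i hi, one_mul]
    · simp [(hS.eq_zero_of_notMem hF hi).1, (hS.eq_zero_of_notMem hF hi).2]

theorem Frame.swap_fix {S : Finset (Fin n)} {e f : Fin n → F} (hS : Frame q S e f)
    {k l : Fin n} (hk : k ∉ S) (hl : l ∉ S) :
    e ∘ Equiv.swap k l = e ∧ f ∘ Equiv.swap k l = f := by
  constructor <;>
  · funext i
    rcases em (i = k) with rfl | hi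
    · simp [(hS.eq_zero_of_notMem hF hk).1, (hS.eq_zero_of_notMem hF hk).2,
        (hS.eq_zero_of_notMem hF hl).1, (hS.eq_zero_of_notMem hF hl).2]
    · by_cases hil : i = l
      · subst hil
        simp [(hS.eq_zero_of_notMem hF hk).1, (hS.eq_zero_of_notMem hF hk).2,
          (hS.eq_zero_of_notMem hF hl).1, (hS.eq_zero_of_notMem hF hl).2]
      · simp [Equiv.swap_apply_of_ne_of_ne hi hil]

/-- The isometries fixing the pair act irreducibly on the complement. -/
theorem Frame.irreducible {S : Finset (Fin n)} {e f : Fin n → F} (hS : Frame q S e f)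
    {W : Submodule F (Fin n → F)} (hW : ∀ w ∈ W, Orth2 q e f w) (h0 : W ≠ ⊥)
    (hinv : ∀ A : GU n F q, A • e = e → A • f = f → ∀ w ∈ W, A • w ∈ W) {w : Fin n → F}
    (hw : Orth2 q e f w) : w ∈ W := by
  classical
  obtain ⟨x, hx, hx0⟩ := (Submodule.ne_bot_iff W).1 h0
  obtain ⟨k, hk⟩ := Function.ne_iff.1 hx0
  have hkS : k ∉ S := fun hh => hk ((hS x).1 (hW x hx) k hh)
  obtain ⟨a, ha, -, ha2⟩ := exists_norm_one hF
  have ha1 : a - 1 ≠ 0 := fun hh => ha2 (by rw [sub_eq_zero.1 hh, one_pow])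
  obtain ⟨A, -, hA⟩ := exists_diagonal hF (Function.update (fun _ => (1 : F)) k a) fun i => by
    by_cases hi : i = k
    · subst hi; simpa using ha
    · simp [Function.update_of_ne hi]
  have hfix := hS.diag_fix hF (d := Function.update (fun _ => (1 : F)) k a) fun i hi =>
    Function.update_of_ne (fun hik : i = k => hkS (hik ▸ hi)) _ _
  have hk1 : (eI k : Fin n → F) ∈ W := by
    have h1 := W.smul_mem (((a - 1) * x k)⁻¹) (W.sub_mem
      (hinv A ((hA e).trans hfix.1) ((hA f).trans hfix.2) x hx) hx)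
    convert h1 using 1
    funext i
    by_cases hi : i = k
    · subst hi
      simp only [eI, Pi.single_eq_same, Pi.smul_apply, Pi.sub_apply, hA, Function.update_self,
        smul_eq_mul]
      rw [show a * x i - x i = (a - 1) * x i by ring,
        inv_mul_cancel₀ (mul_ne_zero ha1 hk)]
    · simp [eI, hA, Function.update_of_ne hi, hi]
  rw [eq_sum_eI w]
  refine Submodule.sum_mem _ fun l _ => ?_
  by_cases hl : l ∈ S
  · rw [(hS w).1 hw l hl, zero_smul]; exact zero_mem _
  refine W.smul_mem _ ?_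
  obtain ⟨P, hP⟩ := exists_perm hF (Equiv.swap k l)
  have hfix := hS.swap_fix hF hkS hl
  have := hinv P ((hP e).trans hfix.1) ((hP f).trans hfix.2) _ hk1
  convert this using 1
  rw [hP]
  funext i
  simp only [eI, Function.comp_apply, Pi.single_apply, Equiv.swap_apply_eq_iff, Equiv.swap_apply_left]

end Cfsg.Agent.AutPSU
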