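import Mathlib
import Cfsg.Agent.AutPSU.Levi

/-!
The additive maps of the complement commuting with the Levi factor are the scalars, so maps
normalising it are semilinear (helper60).
-/

set_option autoImplicit false

namespace Cfsg.Agent.AutPSU

open Matrix Cfsg.Agent.Unitary

universe u

variable {n q : ℕ} {F : Type u} [Field F] [Fintype F] (hF : Fintype.card F = q ^ 2)

/-- `s` is in the Levi factor with eigenvalue `l` at `e`. -/
def IsLevi (q : ℕ) (e f : Fin n → F) (l : F) (s : SU n F q) : Prop :=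
  l ≠ 0 ∧ s • e = l • e ∧ s • f = (l ^ q)⁻¹ • f

include hF

theorem exists_not_fixed' : ∃ c : F, c ^ q ≠ c := by
  by_contra hcon
  push Not at hcon
  exact conjHom_ne_id hF (RingHom.ext hcon)

theorem exists_cube (hq2 : q ≠ 2) : ∃ l : F, l ≠ 0 ∧ (l ^ q * (l ^ q / l)) ^ q ≠ l ^ q * (l ^ q / l) := by
  obtain ⟨a, ha, ha0, ha3⟩ := exists_norm_one_cube hF hq2
  obtain ⟨l, hl⟩ := exists_pow_sub_one hF (c := Units.mk0 a ha0)
    (Units.ext (by simpa [pow_succ'] using ha))
  have hl0 := l.ne_zero
  have hla : (l : F) ^ q / l = a := by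
    rw [← pow_q_sub_one hF hl0]; simpa using congrArg Units.val hl
  have hlq : (l : F) ^ q = a * l := by rw [← hla, div_mul_cancel₀ _ hl0]
  refine ⟨l, hl0, fun hh => ha3 ?_⟩
  rw [hla, mul_pow, pow_q_pow_q hF, eq_inv_of_mul_eq_one_right ha, hlq] at hh
  field_simp at hh
  linear_combination -hh

/-- A set closed under sums and products containing the fixed field and one further element is
everything. -/
theorem eq_univ_of_closed {R : Set F} (hfix : ∀ t : F, t ^ q = t → t ∈ R)
    (hadd : ∀ a ∈ R, ∀ b ∈ R, a + b ∈ R) (hmul : ∀ a ∈ R, ∀ b ∈ R, a * b ∈ R) {μ : F} (hμ : μ ∈ R)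
    (hμ' : μ ^ q ≠ μ) (c : F) : c ∈ R := by
  classical
  have hinj : Function.Injective fun x : {t : F // t ^ q = t} × {t : F // t ^ q = t} =>
      (x.1 : F) + x.2 * μ := by
    rintro ⟨⟨a, ha⟩, ⟨b, hb⟩⟩ ⟨⟨a', ha'⟩, ⟨b', hb'⟩⟩ he
    simp only at he
    by_cases hbb : b = b'
    · subst hbb
      have : a = a' := add_right_cancel he
      subst this; rfl
    · exfalso; apply hμ'
      have h1 : μ = (a - a') / (b' - b) := by
        rw [eq_div_iff (sub_ne_zero.2 (Ne.symm hbb))]; linear_combination -he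
      rw [h1, div_pow, sub_pow_q hF, sub_pow_q hF, ha, ha', hb, hb']
  obtain ⟨⟨s, t⟩, hst⟩ := (Function.Injective.bijective_of_nat_card_le hinj (by
    rw [Nat.card_prod, card_fixed hF, Nat.card_eq_fintype_card, hF, sq])).2 c
  rw [← hst]
  exact hadd _ (hfix _ s.2) _ (hmul _ (hfix _ t.2) _ hμ)

/-- The diagonal Levi element with `l ^ (q - 1)` at the coordinate `m`. -/
theorem exists_levi_diag {S : Finset (Fin n)} {e f : Fin n → F} (h : HPair q e f)
    (hS : Frame q S e f) {m : Fin n} (hm : m ∉ S) {l : F} (hl : l ≠ 0) :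
    ∃ s : SU n F q, IsLevi q e f l s ∧ ∀ w, Orth2 q e f w →
      s • w = fun i => (if i = m then l ^ q / l else 1) * w i := by
  have hlq : l ^ q ≠ 0 := pow_ne_zero _ hl
  obtain ⟨A, hdet, hA⟩ := exists_diagonal hF (fun i : Fin n => if i = m then l ^ q / l else 1)
    fun i => by
      split
      · rw [div_pow, pow_q_pow_q hF]; field_simp
      · simp
  have hfix := hS.diag_fix hF (d := fun i : Fin n => if i = m then l ^ q / l else 1) fun i hi =>
    if_neg fun him : i = m => hm (him ▸ hi)
  obtain ⟨s, h1, h2, h3⟩ := exists_levi hF h ((hA e).trans hfix.1) ((hA f).trans hfix.2) hl (by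
    rw [hdet, Finset.prod_ite_eq' Finset.univ m fun _ => l ^ q / l, if_pos (Finset.mem_univ _)]
    field_simp)
  exact ⟨s, ⟨hl, h1, h2⟩, fun w hw => (h3 w hw).trans (hA w)⟩

/-- The additive, `F_q`-linear maps commuting with the Levi factor are scalars. -/
theorem scalar_of_comm {S : Finset (Fin n)} {e f : Fin n → F} (h : HPair q e f)
    (hS : Frame q S e f) (hk : 2 ≤ Sᶜ.card ∨ q ≠ 2) {ψ : (Fin n → F) → Fin n → F}
    (hmap : ∀ w, Orth2 q e f w → Orth2 q e f (ψ w))
    (hadd : ∀ v w, Orth2 q e f v → Orth2 q e f w → ψ (v + w) = ψ v + ψ w)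
    (hlin : ∀ t : F, t ^ q = t → ∀ w, Orth2 q e f w → ψ (t • w) = t • ψ w)
    (hcomm : ∀ l s, IsLevi q e f l s → ∀ w, Orth2 q e f w →
      ψ (l ^ q • (s • w)) = l ^ q • (s • ψ w)) :
    ∃ c : F, ∀ w, Orth2 q e f w → ψ w = c • w := by
  classical
  have heI : ∀ k, k ∉ S → ∀ x : F, Orth2 q e f (x • (eI k : Fin n → F)) := fun k hk x =>
    (hS _).2 (Submodule.smul_mem _ _ (eI_mem_supp hk))
  set g : Fin n → Fin n → F → F := fun i k x => ψ (x • (eI k : Fin n → F)) i with hg
  have gadd : ∀ k, k ∉ S → ∀ i x y, g i k (x + y) = g i k x + g i k y := fun k hk i x y => by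
    simp only [hg, add_smul, hadd _ _ (heI k hk x) (heI k hk y), Pi.add_apply]
  have glin : ∀ k, k ∉ S → ∀ i (t : F), t ^ q = t → ∀ x, g i k (t * x) = t * g i k x :=
    fun k hk i t ht x => by
      simp only [hg, ← smul_smul, hlin t ht _ (heI k hk x), Pi.smul_apply, smul_eq_mul]
  have gdiag : ∀ k, k ∉ S → ∀ m, m ∉ S → ∀ l : F, l ≠ 0 → ∀ i x,
      g i k (l ^ q * (if k = m then l ^ q / l else 1) * x) =
        l ^ q * (if i = m then l ^ q / l else 1) * g i k x := by
    intro k hk m hm l hl i x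
    obtain ⟨s, hs, hsw⟩ := exists_levi_diag hF h hS hm hl
    have h1 := congrFun (hcomm l s hs _ (heI k hk x)) i
    rw [hsw _ (heI k hk x), hsw _ (hmap _ (heI k hk x))] at h1
    have h2 : (l ^ q • fun j => (if j = m then l ^ q / l else 1) * (x • (eI k : Fin n → F)) j) =
        (l ^ q * (if k = m then l ^ q / l else 1) * x) • (eI k : Fin n → F) := by
      funext j
      by_cases hj : j = k
      · subst hj; simp [eI]; ring
      · simp [eI, hj]
    rw [h2] at h1
    simp only [hg]
    rw [h1, Pi.smul_apply, smul_eq_mul, ← mul_assoc]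
  -- off-diagonal entries vanish
  have goff : ∀ i k, i ∉ S → k ∉ S → i ≠ k → ∀ x, g i k x = 0 := by
    intro i k hi hk hik x
    obtain ⟨a, ha, ha0, ha2⟩ := exists_norm_one hF
    have haq : a ^ q = a⁻¹ := eq_inv_of_mul_eq_one_right ha
    obtain ⟨l, hl⟩ := exists_pow_sub_one hF (c := Units.mk0 a ha0)
      (Units.ext (by simpa [pow_succ'] using ha))
    have hla : (l : F) ^ q / l = a := by
      rw [← pow_q_sub_one hF l.ne_zero]; simpa using congrArg Units.val hl
    have hlq : (l : F) ^ q ≠ 0 := pow_ne_zero _ l.ne_zero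
    have e1 : ∀ y, g i k ((l : F) ^ q * a * y) = (l : F) ^ q * g i k y := fun y => by
      have := gdiag k hk k hk l l.ne_zero i y
      rwa [if_pos rfl, if_neg hik, hla, mul_one] at this
    have e2 : ∀ y, g i k ((l : F) ^ q * y) = (l : F) ^ q * a * g i k y := fun y => by
      have := gdiag k hk i hi l l.ne_zero i y
      rwa [if_pos rfl, if_neg (Ne.symm hik), hla, mul_one] at this
    have e3 : ∀ y, g i k (a * y) = a ^ q * g i k y := fun y => by
      have h1 := e1 (((l : F) ^ q)⁻¹ * y)
      have h2 := e2 (((l : F) ^ q)⁻¹ * y)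
      rw [show (l : F) ^ q * a * (((l : F) ^ q)⁻¹ * y) = a * y by field_simp] at h1
      rw [show (l : F) ^ q * (((l : F) ^ q)⁻¹ * y) = y by field_simp] at h2
      rw [h1, h2, haq]; field_simp
    have hall : ∀ c : F, ∀ y, g i k (c * y) = c ^ q * g i k y := fun c =>
      eq_univ_of_closed hF (R := {c | ∀ y, g i k (c * y) = c ^ q * g i k y})
        (fun t ht y => by rw [glin k hk i t ht, ht])
        (fun b hb d hd y => by rw [add_mul, gadd k hk, hb, hd, add_pow_q hF, add_mul])
        (fun b hb d hd y => by rw [mul_assoc, hb, hd, mul_pow, mul_assoc])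
        (μ := a) e3 (fun hh => ha2 (by rw [haq] at hh; field_simp at hh; exact hh.symm)) c
    have h4 := e2 x
    rw [hall, pow_q_pow_q hF] at h4
    have h5 : (l : F) ^ q = a * l := by rw [← hla, div_mul_cancel₀ _ l.ne_zero]
    rw [h5] at h4
    exact (mul_eq_zero.1 (show ((l : F) * (1 - a ^ 2)) * g i k x = 0 by
      linear_combination h4)).resolve_left (mul_ne_zero l.ne_zero (sub_ne_zero.2 (Ne.symm ha2)))
  -- diagonal entries are linear
  have glind : ∀ k, k ∉ S → ∀ c x : F, g k k (c * x) = c * g k k x := by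
    intro k hk' c
    refine eq_univ_of_closed hF (R := {c | ∀ x, g k k (c * x) = c * g k k x})
      (fun t ht y => glin k hk' k t ht y)
      (fun b hb d hd y => by rw [add_mul, gadd k hk', hb, hd, add_mul])
      (fun b hb d hd y => by rw [mul_assoc, hb, hd, mul_assoc]) (μ := ?_) ?_ ?_ c
    · exact if h2 : 2 ≤ Sᶜ.card then Classical.choose (exists_not_fixed' hF)
        else (Classical.choose (exists_cube hF (hk.resolve_left h2))) ^ q *
          ((Classical.choose (exists_cube hF (hk.resolve_left h2))) ^ q /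
            Classical.choose (exists_cube hF (hk.resolve_left h2)))
    · intro y
      split_ifs with h2
      · set d := Classical.choose (exists_not_fixed' hF)
        obtain ⟨m, hm, hmk⟩ := Finset.exists_mem_ne (by omega : 1 < Sᶜ.card) k
        rw [Finset.mem_compl] at hm
        have hd0 : d ≠ 0 := fun hz => Classical.choose_spec (exists_not_fixed' hF) (by
          show d ^ q = d; rw [hz, zero_pow_q hF])
        have := gdiag k hk' m hm (d ^ q) (pow_ne_zero _ hd0) k y
        rwa [if_neg (Ne.symm hmk), mul_one, pow_q_pow_q hF] at this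
      · set l := Classical.choose (exists_cube hF (hk.resolve_left h2))
        have := gdiag k hk' k hk' l (Classical.choose_spec (exists_cube hF (hk.resolve_left h2))).1 k y
        rwa [if_pos rfl] at this
    · split_ifs with h2
      · exact Classical.choose_spec (exists_not_fixed' hF)
      · exact (Classical.choose_spec (exists_cube hF (hk.resolve_left h2))).2
  refine ?_
  rcases Finset.eq_empty_or_nonempty Sᶜ with he | ⟨k₀, hk₀⟩
  · refine ⟨0, fun w hw => ?_⟩
    have h0 : ∀ v, Orth2 q e f v → v = 0 := fun v hv => funext fun i => (hS v).1 hv i (by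
      by_contra hi; simpa [he] using Finset.mem_compl.2 hi)
    rw [zero_smul]; exact h0 _ (hmap w hw)
  rw [Finset.mem_compl] at hk₀
  refine ⟨g k₀ k₀ 1, fun w hw => ?_⟩
  have hsingle : ∀ k, k ∉ S → ∀ x, ψ (x • (eI k : Fin n → F)) = (g k k 1 * x) • eI k := by
    intro k hk' x
    funext i
    by_cases hiS : i ∈ S
    · rw [(hS _).1 (hmap _ (heI k hk' x)) i hiS]
      have : i ≠ k := fun hh => hk' (hh ▸ hiS)
      simp [eI, this]
    by_cases hik : i = k
    · subst hik
      have := glind i hk' x 1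
      rw [mul_one] at this
      show g i i x = _
      simp [eI, this, mul_comm]
    · show g i k x = _
      simp [eI, hik, goff i k hiS hk' hik x]
  have heq : ∀ k, k ∉ S → g k k 1 = g k₀ k₀ 1 := by
    intro k hk'
    obtain ⟨P, hP⟩ := exists_perm hF (Equiv.swap k₀ k)
    have hfix := hS.swap_fix hF hk₀ hk'
    obtain ⟨l, s, hl, hse, hsf, hsw⟩ := exists_levi' hF h ((hP e).trans hfix.1) ((hP f).trans hfix.2)
    have hPk : P • (eI k₀ : Fin n → F) = eI k := by
      rw [hP]; funext i
      simp only [eI, Function.comp_apply, Pi.single_apply, Equiv.swap_apply_eq_iff,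
        Equiv.swap_apply_left]
    have h1 := hcomm l s ⟨hl, hse, hsf⟩ _ (heI k₀ hk₀ 1)
    rw [hsw _ (heI k₀ hk₀ 1), hsw _ (hmap _ (heI k₀ hk₀ 1)), hsingle k₀ hk₀, one_smul, hPk,
      smul_comm P, hPk, hsingle k hk', mul_one] at h1
    have h2 := congrFun h1 k
    simp [eI] at h2
    exact mul_left_cancel₀ (pow_ne_zero q hl) (by first | linear_combination h2 | linear_combination -h2)
  rw [eq_sum_eI w]
  have key : ∀ T : Finset (Fin n), Orth2 q e f (∑ i ∈ T, w i • (eI i : Fin n → F)) ∧
      ψ (∑ i ∈ T, w i • eI i) = g k₀ k₀ 1 • ∑ i ∈ T, w i • eI i := by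
    intro T
    induction T using Finset.induction_on with
    | empty =>
      have h0 : Orth2 q e f (0 : Fin n → F) := ⟨herm_zero_left e, herm_zero_left f⟩
      refine ⟨h0, ?_⟩
      have := hadd 0 0 h0 h0
      simp only [add_zero, left_eq_add] at this
      simp [this]
    | @insert k T hkT ih =>
      rw [Finset.sum_insert hkT]
      by_cases hkS : k ∈ S
      · rw [(hS w).1 hw k hkS, zero_smul, zero_add]; exact ih
      · refine ⟨(hS _).2 (Submodule.add_mem _ ((hS _).1 (heI k hkS _)) ((hS _).1 ih.1)), ?_⟩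
        rw [hadd _ _ (heI k hkS _) ih.1, ih.2, hsingle k hkS, heq k hkS, smul_add, smul_smul]
  exact (key Finset.univ).2

/-- A map normalising the Levi factor is semilinear. -/
theorem semilinear_of_normalises {S : Finset (Fin n)} {e f : Fin n → F} (h : HPair q e f)
    (hS : Frame q S e f) (hk : 2 ≤ Sᶜ.card ∨ q ≠ 2) {k₀ : Fin n} (hk₀ : k₀ ∉ S)
    {φ : (Fin n → F) → Fin n → F}
    (hmap : ∀ w, Orth2 q e f w → Orth2 q e f (φ w))
    (hbij : ∀ w, Orth2 q e f w → ∃! v, Orth2 q e f v ∧ φ v = w)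
    (hadd : ∀ v w, Orth2 q e f v → Orth2 q e f w → φ (v + w) = φ v + φ w)
    (hlin : ∀ t : F, t ^ q = t → ∀ w, Orth2 q e f w → φ (t • w) = t • φ w)
    (hnorm : ∀ l' s', IsLevi q e f l' s' → ∃ l s, IsLevi q e f l s ∧ ∀ w, Orth2 q e f w →
      φ (l ^ q • (s • w)) = l' ^ q • (s' • φ w)) :
    ∃ τ : F ≃+* F, (∀ t : F, t ^ q = t → τ t = t) ∧
      ((∀ c, τ c = c) ∨ ∀ c, τ c = c ^ q) ∧
      ∀ (c : F) w, Orth2 q e f w → φ (c • w) = τ c • φ w := by
  classical
  have smul' : ∀ {w : Fin n → F}, Orth2 q e f w → ∀ c : F, Orth2 q e f (c • w) := fun hw c =>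
    ⟨by rw [herm_smul_left, hw.1, mul_zero], by rw [herm_smul_left, hw.2, mul_zero]⟩
  have levi_mem : ∀ l s, IsLevi q e f l s → ∀ w, Orth2 q e f w → Orth2 q e f (s • w) := by
    rintro l s ⟨hl, hse, hsf⟩ w hw
    refine ⟨?_, ?_⟩
    · have h1 := herm_smul_SU s w e
      rw [hse, herm_smul_right hF, hw.1] at h1
      exact (mul_eq_zero.1 h1).resolve_left (pow_ne_zero _ hl)
    · have h1 := herm_smul_SU s w f
      rw [hsf, herm_smul_right hF, hw.2] at h1
      exact (mul_eq_zero.1 h1).resolve_left (pow_ne_zero _ (inv_ne_zero (pow_ne_zero _ hl)))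
  have inj : ∀ {v w}, Orth2 q e f v → Orth2 q e f w → φ v = φ w → v = w := fun hv hw he =>
    (hbij _ (hmap _ hw)).unique ⟨hv, he⟩ ⟨hw, rfl⟩
  let inv : (Fin n → F) → Fin n → F := fun w =>
    if hw : Orth2 q e f w then (hbij w hw).exists.choose else 0
  have hinv : ∀ w, Orth2 q e f w → Orth2 q e f (inv w) ∧ φ (inv w) = w := fun w hw => by
    simp only [inv, dif_pos hw]; exact (hbij w hw).exists.choose_spec
  have hscal : ∀ c : F, ∃ d : F, ∀ w, Orth2 q e f w → φ (c • w) = d • φ w := by
    intro c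
    obtain ⟨d, hd⟩ := scalar_of_comm hF h hS hk (ψ := fun w => φ (c • inv w))
      (fun w hw => hmap _ (smul' (hinv w hw).1 c))
      (fun v w hv hw => by
        have hvw : Orth2 q e f (v + w) :=
          ⟨by rw [herm_add_left, hv.1, hw.1, add_zero], by rw [herm_add_left, hv.2, hw.2, add_zero]⟩
        have hsum : Orth2 q e f (inv v + inv w) :=
          ⟨by rw [herm_add_left, (hinv v hv).1.1, (hinv w hw).1.1, add_zero],
            by rw [herm_add_left, (hinv v hv).1.2, (hinv w hw).1.2, add_zero]⟩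
        have he : inv (v + w) = inv v + inv w := inj (hinv _ hvw).1 hsum (by
          rw [(hinv _ hvw).2, hadd _ _ (hinv v hv).1 (hinv w hw).1, (hinv v hv).2, (hinv w hw).2])
        simp only [he, smul_add]
        exact hadd _ _ (smul' (hinv v hv).1 c) (smul' (hinv w hw).1 c))
      (fun t ht w hw => by
        have he : inv (t • w) = t • inv w := inj (hinv _ (smul' hw t)).1 (smul' (hinv w hw).1 t) (by
          rw [(hinv _ (smul' hw t)).2, hlin t ht _ (hinv w hw).1, (hinv w hw).2])
        simp only [he, smul_comm c t]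
        exact hlin t ht _ (smul' (hinv w hw).1 c))
      (fun l' s' hs' w hw => by
        obtain ⟨l, s, hs, hsw⟩ := hnorm l' s' hs'
        have hv := (hinv w hw).1
        have hlw : Orth2 q e f (l' ^ q • (s' • w)) := smul' (levi_mem l' s' hs' w hw) _
        have he : inv (l' ^ q • (s' • w)) = l ^ q • (s • inv w) :=
          inj (hinv _ hlw).1 (smul' (levi_mem l s hs _ hv) _) (by
            rw [(hinv _ hlw).2, hsw _ hv, (hinv w hw).2])
        simp only [he]
        rw [smul_comm c, ← smul_comm s c, hsw _ (smul' hv c)])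
    refine ⟨d, fun w hw => ?_⟩
    have := hd (φ w) (hmap w hw)
    rwa [inj (hinv _ (hmap w hw)).1 hw (hinv _ (hmap w hw)).2] at this
  choose τ hτ using hscal
  have h0 : Orth2 q e f (0 : Fin n → F) := ⟨herm_zero_left e, herm_zero_left f⟩
  have hφ0 : φ 0 = 0 := by
    have := hadd 0 0 h0 h0
    simpa using this
  set w0 : Fin n → F := eI k₀ with hw0
  have hw0o : Orth2 q e f w0 := (hS _).2 (eI_mem_supp hk₀)
  have hw0' : φ w0 ≠ 0 := fun hz => by
    have := congrFun (inj hw0o h0 (hz.trans hφ0.symm)) k₀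
    simp [hw0, eI] at this
  have huniq : ∀ {c d : F}, φ (c • w0) = d • φ w0 → τ c = d := fun {c d} hd =>
    smul_left_injective F hw0' ((hτ c w0 hw0o).symm.trans hd)
  have τmul : ∀ a b, τ (a * b) = τ a * τ b := fun a b => huniq (by
    rw [← smul_smul, hτ a _ (smul' hw0o b), hτ b _ hw0o, smul_smul])
  have τadd : ∀ a b, τ (a + b) = τ a + τ b := fun a b => huniq (by
    rw [add_smul, hadd _ _ (smul' hw0o a) (smul' hw0o b), hτ a _ hw0o, hτ b _ hw0o, add_smul])
  have τfix : ∀ t : F, t ^ q = t → τ t = t := fun t ht => huniq (hlin t ht _ hw0o)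
  have τinj : Function.Injective τ := by
    intro a b hab
    have := inj (smul' hw0o a) (smul' hw0o b) (by rw [hτ a _ hw0o, hτ b _ hw0o, hab])
    simpa [hw0, eI] using congrFun this k₀
  let T : F ≃+* F :=
    { Equiv.ofBijective τ (Finite.injective_iff_bijective.mp τinj) with
      map_mul' := τmul
      map_add' := τadd }
  refine ⟨T, τfix, ?_, fun c w hw => hτ c w hw⟩
  obtain ⟨μ, hμ⟩ := exists_not_fixed' hF
  have hquad : (τ μ - μ) * (τ μ - μ ^ q) = 0 := by
    have h1 : τ (μ + μ ^ q) = μ + μ ^ q := τfix _ (by rw [add_pow_q hF, pow_q_pow_q hF, add_comm])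
    have h2 : τ (μ * μ ^ q) = μ * μ ^ q := τfix _ (by rw [mul_pow, pow_q_pow_q hF, mul_comm])
    rw [τadd] at h1
    rw [τmul] at h2
    linear_combination (τ μ) * h1 - h2
  rcases mul_eq_zero.1 hquad with hh | hh
  · exact Or.inl fun c => eq_univ_of_closed hF (R := {c | τ c = c}) τfix
      (fun a ha b hb => by show τ (a + b) = a + b; rw [τadd, ha, hb])
      (fun a ha b hb => by show τ (a * b) = a * b; rw [τmul, ha, hb]) (sub_eq_zero.1 hh) hμ c
  · exact Or.inr fun c => eq_univ_of_closed hF (R := {c | τ c = c ^ q})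
      (fun t ht => by show τ t = t ^ q; rw [τfix t ht, ht])
      (fun a ha b hb => by show τ (a + b) = (a + b) ^ q; rw [τadd, ha, hb, add_pow_q hF])
      (fun a ha b hb => by show τ (a * b) = (a * b) ^ q; rw [τmul, ha, hb, mul_pow])
      (sub_eq_zero.1 hh) hμ c

end Cfsg.Agent.AutPSU
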