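import Mathlib
import Cfsg.Agent.AutPSU.Levi
import Cfsg.Agent.Lib.Unitary.Simple

/-!
Root groups, unipotent radicals and point stabilisers in `PSU_n(q)` (helper60).
-/

set_option autoImplicit false

namespace Cfsg.Agent.AutPSU

open Matrix Cfsg.Agent.Unitary

universe u

variable {n q : ℕ} {F : Type u} [Field F] [Fintype F] (hF : Fintype.card F = q ^ 2)

theorem tv_cond {c : F} (hc : c + c ^ q = 0) :
    c + c ^ q = -herm q (0 : Fin n → F) 0 := by rw [hc, herm_zero_left, neg_zero]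

theorem orth2_zero (e f : Fin n → F) : Orth2 q e f (0 : Fin n → F) :=
  ⟨herm_zero_left e, herm_zero_left f⟩

theorem piU_surjective : Function.Surjective (piU n F q) := QuotientGroup.mk'_surjective _

include hF in
theorem Orth2.smul' {e f w : Fin n → F} (h : Orth2 q e f w) (c : F) : Orth2 q e f (c • w) :=
  ⟨by rw [herm_smul_left, h.1, mul_zero], by rw [herm_smul_left, h.2, mul_zero]⟩

theorem Orth2.add {e f w w' : Fin n → F} (h : Orth2 q e f w) (h' : Orth2 q e f w') :
    Orth2 q e f (w + w') :=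
  ⟨by rw [herm_add_left, h.1, h'.1, add_zero], by rw [herm_add_left, h.2, h'.2, add_zero]⟩

include hF in
theorem exists_b (w : Fin n → F) : ∃ b : F, b + b ^ q = -herm q w w :=
  exists_trace_eq hF (by rw [neg_pow_q hF, herm_self_fixed hF])

/-- The root group of the isotropic vector `u`. -/
def Tgrp {u : Fin n → F} (hu : herm q u u = 0) : Subgroup (PSU n F q) :=
  (rootGroup hF hu).map (piU n F q)

theorem mem_Tgrp {u : Fin n → F} {hu : herm q u u = 0} {x : PSU n F q} :
    x ∈ Tgrp hF hu ↔ ∃ (c : F) (hc : c + c ^ q = 0), x = piU n F q (tv hF hu hc) := by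
  constructor
  · rintro ⟨g, ⟨c, hc, rfl⟩, rfl⟩; exact ⟨c, hc, rfl⟩
  · rintro ⟨c, hc, rfl⟩; exact ⟨_, ⟨c, hc, rfl⟩, rfl⟩

theorem tv_mem_Tgrp {u : Fin n → F} (hu : herm q u u = 0) {c : F} (hc : c + c ^ q = 0) :
    piU n F q (tv hF hu hc) ∈ Tgrp hF hu := (mem_Tgrp hF).2 ⟨c, hc, rfl⟩

include hF in
theorem tv_eq_Qel {e f : Fin n → F} (h : HPair q e f) {c : F} (hc : c + c ^ q = 0) :
    tv hF h.ee hc = Qel hF h.ee (orth2_zero e f).1 (tv_cond hc) := rfl

/-- The unipotent radical at the first vector of the pair. -/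
def Ugrp {e f : Fin n → F} (h : HPair q e f) : Subgroup (PSU n F q) where
  carrier := {x | ∃ (w : Fin n → F) (hw : Orth2 q e f w) (b : F) (hb : b + b ^ q = -herm q w w),
    x = piU n F q (Qel hF h.ee hw.1 hb)}
  mul_mem' := by
    rintro _ _ ⟨w, hw, b, hb, rfl⟩ ⟨w', hw', b', hb', rfl⟩
    exact ⟨w + w', hw.add hw', _, Qel_add_cond hF hb hb',
      by rw [← map_mul, Qel_mul_Qel hF h.ee hw.1 hb hw'.1 hb' (Qel_add_cond hF hb hb')]⟩
  one_mem' := by
    refine ⟨0, orth2_zero e f, 0, tv_cond (by rw [zero_pow_q hF, add_zero]), ?_⟩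
    rw [← map_one (piU n F q)]
    refine congrArg _ (eq_of_smul_eq_SU fun x => ?_)
    rw [one_smul, Qel_smul, herm_zero_right hF]
    simp
  inv_mem' := by
    rintro _ ⟨w, hw, b, hb, rfl⟩
    refine ⟨-w, ⟨(Qel_inv_cond hF hw.1 hb).1, ?_⟩, _, (Qel_inv_cond hF hw.1 hb).2, ?_⟩
    · rw [herm_neg_left, hw.2, neg_zero]
    · rw [← map_inv, Qel_inv hF h.ee hw.1 hb]

theorem mem_Ugrp {e f : Fin n → F} {h : HPair q e f} {x : PSU n F q} :
    x ∈ Ugrp hF h ↔ ∃ (w : Fin n → F) (hw : Orth2 q e f w) (b : F)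
      (hb : b + b ^ q = -herm q w w), x = piU n F q (Qel hF h.ee hw.1 hb) := Iff.rfl

theorem Qel_mem_Ugrp {e f w : Fin n → F} (h : HPair q e f) (hw : herm q w e = 0) {b : F}
    (hb : b + b ^ q = -herm q w w) : piU n F q (Qel hF h.ee hw hb) ∈ Ugrp hF h := by
  set t := herm q w f with ht
  have hp : prj q e f w = w - t • e := by rw [prj, hw, ← ht]; module
  have hew : herm q e w = 0 := (herm_eq_zero_comm hF).1 hw
  refine ⟨prj q e f w, orth2_prj hF h w, b + t - t ^ q, ?_, congrArg _ ?_⟩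
  · rw [hp, sub_pow_q hF, add_pow_q hF, pow_q_pow_q hF]
    simp only [herm_sub_left, herm_sub_right hF, herm_smul_left, herm_smul_right hF, h.ee, hw, hew]
    linear_combination hb
  · refine eq_of_smul_eq_SU fun x => ?_
    simp only [Qel_smul, hp, herm_sub_right hF, herm_smul_right hF]
    match_scalars <;> ring

theorem Tgrp_le_Ugrp {e f : Fin n → F} (h : HPair q e f) : Tgrp hF h.ee ≤ Ugrp hF h := by
  intro x hx
  obtain ⟨c, hc, rfl⟩ := (mem_Tgrp hF).1 hx
  exact ⟨0, orth2_zero e f, c, tv_cond hc, rfl⟩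

/-- The stabiliser of the line through `u`. -/
def stab (hn : 2 ≤ n) (_hF : Fintype.card F = q ^ 2) (u : Fin n → F) : Subgroup (PSU n F q) :=
  Subgroup.map (piU n F q)
    { carrier := {g | ∃ a : F, a ≠ 0 ∧ g • u = a • u}
      mul_mem' := by
        rintro g k ⟨a, ha, hg⟩ ⟨b, hb, hk⟩
        exact ⟨b * a, mul_ne_zero hb ha, by rw [mul_smul, hk, smul_comm, hg, smul_smul]⟩
      one_mem' := ⟨1, one_ne_zero, by simp⟩
      inv_mem' := by
        rintro g ⟨a, ha, hg⟩
        refine ⟨a⁻¹, inv_ne_zero ha, ?_⟩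
        rw [inv_smul_eq_iff, smul_comm, hg, smul_smul, inv_mul_cancel₀ ha, one_smul] }

theorem mem_stab (hn : 2 ≤ n) {u : Fin n → F} {g : SU n F q} :
    piU n F q g ∈ stab hn hF u ↔ ∃ a : F, a ≠ 0 ∧ g • u = a • u := by
  constructor
  · rintro ⟨k, ⟨a, ha, hk⟩, he⟩
    by_cases hu : u = 0
    · exact ⟨1, one_ne_zero, by simp [hu]⟩
    obtain ⟨r, hr⟩ := (piU_eq_iff hF hn).1 he
    have e : g • u = (r * a) • u := by rw [hr, hk, smul_smul]
    refine ⟨r * a, fun hz => ?_, e⟩
    rw [hz, zero_smul, smul_eq_zero_iff_eq] at e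
    exact hu e
  · rintro h; exact ⟨g, h, rfl⟩

/-- Commuting with one nontrivial element of the root group fixes its point. -/
theorem fix_of_comm (hn : 2 ≤ n) {e f : Fin n → F} (h : HPair q e f) {g : SU n F q} {c : F}
    (hc0 : c ≠ 0) (hc : c + c ^ q = 0)
    (hcomm : piU n F q g * piU n F q (tv hF h.ee hc) = piU n F q (tv hF h.ee hc) * piU n F q g) :
    ∃ a : F, a * a ^ q = 1 ∧ g • e = a • e := by
  have h1 : piU n F q (g * tv hF h.ee hc * g⁻¹) = piU n F q (tv hF h.ee hc) := by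
    rw [map_mul, map_mul, map_inv, hcomm, mul_inv_cancel_right]
  rw [conj_tv] at h1
  have h2 := piU_Qel_eq hF hn h.e_ne h1
  have h3 := congrArg (fun k : SU n F q => k • f) h2
  change tv hF _ hc • f = tv hF _ hc • f at h3
  rw [tv_smul, tv_smul, add_right_inj, h.fe hF, mul_one] at h3
  set d := herm q f (g • e)
  have hd : d ≠ 0 := fun hz => by
    rw [hz, mul_zero, zero_smul] at h3
    exact smul_ne_zero hc0 h.e_ne h3.symm
  have h4 : g • e = d⁻¹ • e := by
    have := congrArg (fun v => (c * d)⁻¹ • v) h3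
    simp only [inv_smul_smul₀ (mul_ne_zero hc0 hd), smul_smul] at this
    rw [this]; congr 1; field_simp
  refine ⟨d⁻¹, ?_, h4⟩
  have h5 : d = (d⁻¹) ^ q := by
    have : d = herm q f (d⁻¹ • e) := by rw [← h4]
    rwa [herm_smul_right hF, h.fe hF, mul_one] at this
  rw [← h5, inv_mul_cancel₀ hd]

theorem conj_mem_Ugrp (hn : 2 ≤ n) {e f : Fin n → F} (h : HPair q e f) {x y : PSU n F q}
    (hx : x ∈ stab hn hF e) (hy : y ∈ Ugrp hF h) : x * y * x⁻¹ ∈ Ugrp hF h := by
  obtain ⟨g, rfl⟩ := piU_surjective x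
  obtain ⟨a, -, ha⟩ := (mem_stab hF hn).1 hx
  obtain ⟨w, hw, b, hb, rfl⟩ := hy
  rw [← map_inv, ← map_mul, ← map_mul, conj_Qel]
  have hw' : herm q (g • w) e = 0 → herm q (a ^ q • g • w) e = 0 := fun hh => by
    rw [herm_smul_left, hh, mul_zero]
  have hgw : herm q (g • w) (a • e) = 0 := by rw [← ha, herm_smul_SU]; exact hw.1
  have hb' : b + b ^ q = -herm q (g • w) (g • w) := by rw [herm_smul_SU]; exact hb
  have hae : herm q (a • e) (a • e) = 0 := by
    rw [herm_smul_left, herm_smul_right hF, h.ee, mul_zero, mul_zero]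
  have hwe : herm q (g • w) e = 0 := by
    rw [herm_smul_right hF] at hgw
    refine (mul_eq_zero.1 hgw).resolve_left (fun hz => h.e_ne ?_)
    rw [pow_q_eq_zero_iff hF] at hz
    rwa [hz, zero_smul, smul_eq_zero_iff_eq] at ha
  have : ∀ (u : Fin n → F) (hu : herm q u u = 0) (h1 : herm q (g • w) u = 0), u = a • e →
      Qel hF hu h1 hb' = Qel hF hae hgw hb' := by
    intro u hu h1 heq; subst heq; rfl
  rw [this _ _ _ ha, Qel_rescale hF h.ee hwe hb' hae hgw]
  exact Qel_mem_Ugrp hF h _ _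

theorem conj_mem_Tgrp (hn : 2 ≤ n) {e f : Fin n → F} (h : HPair q e f) {x y : PSU n F q}
    (hx : x ∈ stab hn hF e) (hy : y ∈ Tgrp hF h.ee) : x * y * x⁻¹ ∈ Tgrp hF h.ee := by
  obtain ⟨g, rfl⟩ := piU_surjective x
  obtain ⟨a, ha0, ha⟩ := (mem_stab hF hn).1 hx
  obtain ⟨c, hc, rfl⟩ := (mem_Tgrp hF).1 hy
  rw [← map_inv, ← map_mul, ← map_mul, conj_tv]
  have := rootGroup_eq hF (hu := h.ee) (hu' := (herm_smul_SU g e e).trans h.ee) ha0 ha.symm
  exact ⟨_, this ▸ ⟨c, hc, rfl⟩, rfl⟩

/-- An element fixing `e` up to a norm-one scalar `a` and acting on `e^⊥/e` by `a` is `a` times a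
`Qel`. -/
theorem mem_Ugrp_of_trivial (hn : 2 ≤ n) {e f : Fin n → F} (h : HPair q e f) {g : SU n F q}
    {a : F} (ha : a * a ^ q = 1) (hge : g • e = a • e)
    (hw : ∀ w, Orth2 q e f w → prj q e f (g • w) = a • w) :
    piU n F q g ∈ Ugrp hF h := by
  have ha0 : a ≠ 0 := fun hz => by simp [hz] at ha
  set t : SU n F q → (Fin n → F) → Fin n → F := fun g x => a⁻¹ • (g • x) with ht
  have haq : a⁻¹ * (a⁻¹) ^ q = 1 := by rw [inv_pow, ← mul_inv, ha, inv_one]
  have hform : ∀ x y, herm q (t g x) (t g y) = herm q x y := fun x y => by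
    simp only [ht, herm_smul_left, herm_smul_right hF, herm_smul_SU]
    linear_combination (herm q x y) * haq
  have hte : t g e = e := by simp only [ht, hge, smul_smul, inv_mul_cancel₀ ha0, one_smul]
  set v := prj q e f (t g f) with hv
  have hvo : Orth2 q e f v := orth2_prj hF h _
  set s := herm q (t g f) f with hs
  have h1 : herm q (t g f) e = 1 := by
    have := hform f e; rwa [hte, h.fe hF] at this
  have htf : t g f = f + v + s • e := by
    conv_lhs => rw [eq_prj (q := q) e f (t g f), h1, ← hs, one_smul, ← hv]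
    abel
  have hcond : s + s ^ q = -herm q v v := by
    have := hform f f
    rw [htf, h.ff] at this
    simp only [herm_add_left, herm_add_right hF, herm_smul_left, herm_smul_right hF, h.ee, h.ff,
      h.ef, h.fe hF, hvo.1, hvo.2, (hvo.left hF).1, (hvo.left hF).2] at this
    linear_combination this
  have htw : ∀ w, Orth2 q e f w → t g w = w + (-herm q w v) • e := by
    intro w hwo
    have h2 : herm q (t g w) e = 0 := by
      have := hform w e; rwa [hte, hwo.1] at this
    have h3 : prj q e f (t g w) = w := by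
      simp only [ht, prj_smul, hw w hwo, smul_smul, inv_mul_cancel₀ ha0, one_smul]
    have h4 : t g w = herm q (t g w) f • e + w := by
      conv_lhs => rw [eq_prj (q := q) e f (t g w), h2, h3, zero_smul, add_zero]
    have h5 := hform w f
    rw [hwo.2, htf, h4] at h5
    simp only [herm_add_left, herm_add_right hF, herm_smul_left, herm_smul_right hF, h.ee, h.ef,
      hwo.1, hwo.2, (hvo.left hF).1] at h5
    rw [h4, show herm q (t g w) f = -herm q w v by linear_combination h5]
    abel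
  refine ⟨v, hvo, s, hcond, ?_⟩
  symm
  refine (piU_eq_iff hF hn).2 ⟨a, fun x => ?_⟩
  have key : ∀ x, t g x = Qel hF h.ee hvo.1 hcond • x := by
    intro x
    have hlin : ∀ y z, t g (y + z) = t g y + t g z := fun y z => by
      simp only [ht, smul_add]
    have hsm : ∀ (c : F) y, t g (c • y) = c • t g y := fun c y => by
      simp only [ht, smul_comm g c]; rw [smul_comm]
    conv_lhs => rw [eq_prj (q := q) e f x]
    conv_rhs => rw [eq_prj (q := q) e f x]
    rw [hlin, hlin, hsm, hsm, hte, htf, htw _ (orth2_prj hF h x)]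
    simp only [smul_add, smul_comm (Qel hF h.ee hvo.1 hcond) (herm q x f) e,
      smul_comm (Qel hF h.ee hvo.1 hcond) (herm q x e) f, Qel_e hF h hvo, Qel_f hF h hvo]
    rw [Qel_smul, (orth2_prj hF h x).1]
    module
  rw [← key, ht, smul_smul, mul_inv_cancel₀ ha0, one_smul]

theorem prj_Qel_f {e f w : Fin n → F} (h : HPair q e f) (hw : herm q w e = 0) {b : F}
    (hb : b + b ^ q = -herm q w w) :
    prj q e f (Qel hF h.ee hw hb • f) = prj q e f w := by
  rw [Qel_smul, h.fe hF, one_smul]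
  simp only [prj, herm_add_left, herm_sub_left, herm_smul_left, h.ee, h.ff, h.ef, h.fe hF]
  module

include hF in
theorem exists_not_fixed : ∃ c : F, c ^ q ≠ c := by
  by_contra hcon
  push Not at hcon
  exact conjHom_ne_id hF (RingHom.ext hcon)

theorem centralizer_Ugrp (hn : 2 ≤ n) {e f : Fin n → F} (h : HPair q e f) {x : PSU n F q}
    (hx : ∀ y ∈ Ugrp hF h, x * y = y * x) : x ∈ Tgrp hF h.ee := by
  obtain ⟨g, rfl⟩ := piU_surjective x
  obtain ⟨c, hc0, hc⟩ := exists_trace_zero_ne_zero hF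
  obtain ⟨a, ha, hge⟩ := fix_of_comm hF hn h hc0 hc
    (hx _ (Tgrp_le_Ugrp hF h (tv_mem_Tgrp hF h.ee hc)))
  have ha0 : a ≠ 0 := fun hz => by simp [hz] at ha
  have htriv : ∀ w, Orth2 q e f w → prj q e f (g • w) = a • w := by
    intro w hw
    obtain ⟨b, hb⟩ := exists_b hF w
    have h1 : piU n F q (g * Qel hF h.ee hw.1 hb * g⁻¹) = piU n F q (Qel hF h.ee hw.1 hb) := by
      rw [map_mul, map_mul, map_inv, hx _ ⟨w, hw, b, hb, rfl⟩, mul_inv_cancel_right]
    rw [conj_Qel] at h1
    have h2 := piU_Qel_eq hF hn h.e_ne h1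
    have hae : herm q (a • e) (a • e) = 0 := by rw [← hge, herm_smul_SU]; exact h.ee
    have hgwa : herm q (g • w) (a • e) = 0 := by rw [← hge, herm_smul_SU]; exact hw.1
    have hwe : herm q (g • w) e = 0 := by
      rw [herm_smul_right hF] at hgwa
      exact (mul_eq_zero.1 hgwa).resolve_left (pow_ne_zero _ ha0)
    have hb' : b + b ^ q = -herm q (g • w) (g • w) := by rw [herm_smul_SU]; exact hb
    have : ∀ (u : Fin n → F) (hu : herm q u u = 0) (h1 : herm q (g • w) u = 0), u = a • e →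
        Qel hF hu h1 hb' = Qel hF hae hgwa hb' := by
      intro u hu h1 heq; subst heq; rfl
    rw [this _ _ _ hge, Qel_rescale hF h.ee hwe hb' hae hgwa] at h2
    have h3 := congrArg (fun k : SU n F q => prj q e f (k • f)) h2
    simp only [prj_Qel_f hF h, prj_smul, prj_of_orth2 hw] at h3
    have : a ^ q = a⁻¹ := eq_inv_of_mul_eq_one_right ha
    rw [this, inv_smul_eq_iff₀ ha0] at h3
    exact h3
  obtain ⟨v, hv, s, hs, hgs⟩ := mem_Ugrp_of_trivial hF hn h ha hge htriv
  have hv0 : v = 0 := by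
    have hperp : ∀ w, Orth2 q e f w → herm q w v = 0 := by
      intro w hw
      have key : ∀ w, Orth2 q e f w → herm q w v = herm q v w := by
        intro w hw
        obtain ⟨b, hb⟩ := exists_b hF w
        have h1 := hx _ ⟨w, hw, b, hb, rfl⟩
        rw [hgs, ← map_mul, ← map_mul, Qel_mul_Qel hF h.ee hv.1 hs hw.1 hb
            (Qel_add_cond hF hs hb),
          Qel_mul_Qel hF h.ee hw.1 hb hv.1 hs (Qel_add_cond hF hb hs)] at h1
        have h2 := (Qel_inj hF h (hv.add hw) (hw.add hv) (piU_Qel_eq hF hn h.e_ne h1)).2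
        linear_combination -h2
      obtain ⟨d, hd⟩ := exists_not_fixed hF
      have h1 := key _ (hw.smul' hF d)
      rw [herm_smul_left, herm_smul_right hF, key w hw] at h1
      rw [key w hw]
      exact (mul_eq_zero.1 (show (d - d ^ q) * herm q v w = 0 by linear_combination h1)).resolve_left
        (sub_ne_zero.2 (Ne.symm hd))
    refine eq_zero_of_herm hF fun y => ?_
    rw [eq_prj (q := q) e f y, herm_add_right hF, herm_add_right hF, herm_smul_right hF,
      herm_smul_right hF, hv.1, hv.2, (herm_eq_zero_comm hF).1 (hperp _ (orth2_prj hF h y))]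
    simp
  subst hv0
  rw [hgs]
  rw [herm_zero_left, neg_zero] at hs
  exact tv_mem_Tgrp hF h.ee hs

end Cfsg.Agent.AutPSU
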