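import Mathlib
import Cfsg.Agent.AutPSU.Radical

/-!
Sylow subgroups and normal `p`-subgroups of point stabilisers in `PSU_n(q)` (helper60).
-/

set_option autoImplicit false

namespace Cfsg.Agent.AutPSU

open Matrix Cfsg.Agent.Unitary

universe u

variable {n q : ℕ} {F : Type u} [Field F] [Fintype F] (hF : Fintype.card F = q ^ 2)

theorem tv_pow {u : Fin n → F} (hu : herm q u u = 0) {c : F} (hc : c + c ^ q = 0) (k : ℕ) :
    ∃ hk : (k : F) * c + ((k : F) * c) ^ q = 0, tv hF hu hc ^ k = tv hF hu hk := by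
  induction k with
  | zero =>
    refine ⟨by simp [zero_pow_q hF], ?_⟩
    refine eq_of_smul_eq_SU fun x => ?_
    rw [pow_zero, one_smul, tv_smul]
    simp
  | succ k ih =>
    obtain ⟨hk, e⟩ := ih
    refine ⟨?_, eq_of_smul_eq_SU fun x => ?_⟩
    · rw [Nat.cast_succ, add_one_mul, add_pow_q hF]
      linear_combination hk + hc
    rw [pow_succ, e, mul_smul, tv_smul, tv_smul, tv_smul, herm_add_left, herm_smul_left, hu,
      Nat.cast_succ]
    module

theorem Qel_pow {e f w : Fin n → F} (h : HPair q e f) (hw : Orth2 q e f w) {b : F}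
    (hb : b + b ^ q = -herm q w w) (k : ℕ) :
    ∃ (b' : F) (hb' : b' + b' ^ q = -herm q ((k : F) • w) ((k : F) • w)),
      Qel hF h.ee hw.1 hb ^ k = Qel hF h.ee (hw.smul' hF (k : F)).1 hb' := by
  induction k with
  | zero =>
    refine ⟨0, by simp [zero_pow_q hF], ?_⟩
    refine eq_of_smul_eq_SU fun x => ?_
    rw [pow_zero, one_smul, Qel_smul]
    simp [herm_zero_right hF]
  | succ k ih =>
    obtain ⟨b', hb', e'⟩ := ih
    have e2 : ((k + 1 : ℕ) : F) • w = (k : F) • w + w := by rw [Nat.cast_succ, add_smul, one_smul]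
    refine ⟨_, by rw [e2]; exact Qel_add_cond hF hb' hb, ?_⟩
    rw [pow_succ, e', Qel_mul_Qel hF h.ee (hw.smul' hF _).1 hb' hw.1 hb (Qel_add_cond hF hb' hb)]
    exact Qel_congr hF h.ee _ _ _ _ e2.symm rfl

variable (p : ℕ) [Fact p.Prime] [CharP F p]

theorem isPGroup_Ugrp {e f : Fin n → F} (h : HPair q e f) : IsPGroup p (Ugrp hF h) := by
  rintro ⟨x, w, hw, b, hb, rfl⟩
  refine ⟨2, Subtype.ext ?_⟩
  show piU n F q (Qel hF h.ee hw.1 hb) ^ p ^ 2 = 1
  rw [sq, pow_mul, ← map_pow, ← map_pow]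
  obtain ⟨b', hb', e1⟩ := Qel_pow hF h hw hb p
  have hz : (p : F) • w = 0 := by rw [CharP.cast_eq_zero, zero_smul]
  have hb0 : b' + b' ^ q = 0 := by rw [hb', hz, herm_zero_left, neg_zero]
  have e2 : Qel hF h.ee (hw.smul' hF (p : F)).1 hb' = tv hF h.ee hb0 :=
    Qel_congr hF h.ee _ _ _ _ hz rfl
  rw [e1, e2]
  obtain ⟨hk, e3⟩ := tv_pow hF h.ee hb0 p
  rw [e3, ← map_one (piU n F q)]
  refine congrArg _ (eq_of_smul_eq_SU fun x => ?_)
  rw [one_smul, tv_smul, CharP.cast_eq_zero]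
  simp

theorem Ugrp_le_stab (hn : 2 ≤ n) {e f : Fin n → F} (h : HPair q e f) :
    Ugrp hF h ≤ stab hn hF e := by
  rintro _ ⟨w, hw, b, hb, rfl⟩
  exact (mem_stab hF hn).2 ⟨1, one_ne_zero, by rw [Qel_e hF h hw, one_smul]⟩

include hF in
theorem norm_eq_one_of_pow {a r : F} (hr : r * r ^ q = 1) {N k : ℕ} (hN : N = p ^ k)
    (ha : a ^ N = r) : a * a ^ q = 1 := by
  subst hN
  have h1 : (a * a ^ q) ^ p ^ k = 1 := by rw [mul_pow, pow_right_comm, ha, hr]
  have h2 : (a * a ^ q - 1) ^ p ^ k = 0 := by rw [sub_pow_char_pow, h1, one_pow, sub_self]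
  exact sub_eq_zero.1 ((pow_eq_zero_iff (pow_ne_zero _ (Fact.out : p.Prime).ne_zero)).1 h2)

include hF in
theorem scalar_norm {g : SU n F q} {r : F} (hr : ∀ x : Fin n → F, g • x = r • x) {e f : Fin n → F}
    (h : HPair q e f) : r * r ^ q = 1 := by
  have := herm_smul_SU g e f
  rw [hr, hr, herm_smul_left, herm_smul_right hF, h.ef, mul_one] at this
  exact this

omit [Fintype F] in
theorem pow_smul_eigen {g : SU n F q} {a : F} {e : Fin n → F} (hge : g • e = a • e) (k : ℕ) :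
    g ^ k • e = a ^ k • e := by
  induction k with
  | zero => simp
  | succ k ih => rw [pow_succ, mul_smul, hge, smul_comm, ih, smul_smul, pow_succ']

/-- The centre of a Sylow subgroup containing the radical is the root group. -/
theorem center_sylow (hn : 2 ≤ n) {e f : Fin n → F} (h : HPair q e f)
    (P : Sylow p (PSU n F q)) (hP : Ugrp hF h ≤ P) :
    (Subgroup.center P).map (P : Subgroup (PSU n F q)).subtype = Tgrp hF h.ee := by
  obtain ⟨c, hc0, hc⟩ := exists_trace_zero_ne_zero hF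
  have htne : piU n F q (tv hF h.ee hc) ≠ 1 := by
    intro h1
    have h0 : tv hF h.ee (show (0 : F) + 0 ^ q = 0 by rw [zero_pow_q hF, add_zero]) = 1 :=
      eq_of_smul_eq_SU fun x => by rw [tv_smul, one_smul]; simp
    rw [← map_one (piU n F q), ← h0] at h1
    exact hc0 (Qel_inj hF h (orth2_zero e f) (orth2_zero e f)
      (piU_Qel_eq hF hn h.e_ne h1)).2
  have hle : (Subgroup.center P).map (P : Subgroup (PSU n F q)).subtype ≤ Tgrp hF h.ee := by
    rintro _ ⟨z, hz, rfl⟩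
    refine centralizer_Ugrp hF hn h fun y hy => ?_
    have := Subgroup.mem_center_iff.1 hz ⟨y, hP hy⟩
    exact (congrArg Subtype.val this).symm
  refine le_antisymm hle fun x hx => ?_
  have hxP : x ∈ P := hP (Tgrp_le_Ugrp hF h hx)
  refine ⟨⟨x, hxP⟩, ?_, rfl⟩
  rw [SetLike.mem_coe, Subgroup.mem_center_iff]
  rintro ⟨y, hy⟩
  apply Subtype.ext
  show y * x = x * y
  haveI : Nontrivial P := ⟨⟨_, hP (Tgrp_le_Ugrp hF h (tv_mem_Tgrp hF h.ee hc))⟩, 1,
    fun e => htne (congrArg Subtype.val e)⟩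
  haveI := P.isPGroup'.center_nontrivial
  obtain ⟨z, hz⟩ := exists_ne (1 : Subgroup.center P)
  obtain ⟨d, hd, hzd⟩ := (mem_Tgrp hF).1 (hle ⟨z.1, z.2, rfl⟩)
  have hd0 : d ≠ 0 := by
    intro h0
    apply hz
    apply Subtype.ext; apply Subtype.ext
    refine hzd.trans ?_
    show piU n F q (tv hF h.ee hd) = 1
    rw [← map_one (piU n F q)]
    refine congrArg _ (eq_of_smul_eq_SU fun v => ?_)
    rw [tv_smul, h0, one_smul]
    simp
  obtain ⟨g, rfl⟩ := piU_surjective y
  have hzy := congrArg Subtype.val (Subgroup.mem_center_iff.1 z.2 ⟨_, hy⟩)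
  change piU n F q g * ((z.1 : P) : PSU n F q) = ((z.1 : P) : PSU n F q) * piU n F q g at hzy
  rw [show ((z.1 : P) : PSU n F q) = piU n F q (tv hF h.ee hd) from hzd] at hzy
  obtain ⟨a, ha, hge⟩ := fix_of_comm hF hn h hd0 hd hzy
  obtain ⟨t, ht, rfl⟩ := (mem_Tgrp hF).1 hx
  rw [← map_mul, ← map_mul]
  refine congrArg _ (mul_inv_eq_iff_eq_mul.1 ?_)
  rw [conj_tv]
  refine eq_of_smul_eq_SU fun v => ?_
  rw [tv_smul, tv_smul, hge, herm_smul_right hF, smul_smul]
  congr 2
  linear_combination (t * herm q v e) * ha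

include p in
theorem exists_conj_of_Tgrp (hn : 2 ≤ n) {e f : Fin n → F} (h : HPair q e f)
    (α : MulAut (PSU n F q)) :
    ∃ k : SU n F q, (Tgrp hF h.ee).map α.toMonoidHom =
      Tgrp hF (u := k • e) ((herm_smul_SU k e e).trans h.ee) := by
  obtain ⟨P, hP⟩ := (isPGroup_Ugrp hF p h).exists_le_sylow
  have hsurj : Function.Surjective α.toMonoidHom := α.surjective
  let Q : Sylow p (PSU n F q) := P.mapSurjective hsurj
  obtain ⟨x, hx⟩ := MulAction.exists_smul_eq (PSU n F q) P Q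
  obtain ⟨k, rfl⟩ := piU_surjective x
  refine ⟨k, ?_⟩
  have key : ∀ y : PSU n F q, y ∈ Tgrp hF h.ee ↔
      y ∈ P ∧ ∀ z ∈ P, z * y = y * z := by
    intro y
    rw [← center_sylow hF p hn h P hP]
    constructor
    · rintro ⟨w, hw, rfl⟩
      exact ⟨w.2, fun z hz => congrArg Subtype.val (Subgroup.mem_center_iff.1 hw ⟨z, hz⟩)⟩
    · rintro ⟨hy, hc⟩
      exact ⟨⟨y, hy⟩, Subgroup.mem_center_iff.2 fun z => Subtype.ext (hc z z.2), rfl⟩
  set γ : MulAut (PSU n F q) := MulAut.conj (piU n F q k)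
  have hQ : ∀ y, y ∈ P ↔ γ⁻¹ (α y) ∈ P := by
    intro y
    have h1 : (y ∈ P) ↔ α y ∈ (Q : Subgroup (PSU n F q)) := by
      rw [Sylow.coe_mapSurjective]
      exact (Subgroup.mem_map_iff_mem (f := α.toMonoidHom) α.injective).symm
    rw [h1, ← hx]
    exact Subgroup.mem_pointwise_smul_iff_inv_smul_mem
  have hT : ∀ y, y ∈ Tgrp hF h.ee → γ⁻¹ (α y) ∈ Tgrp hF h.ee := by
    intro y hy
    rw [key] at hy ⊢
    refine ⟨(hQ y).1 hy.1, fun z hz => ?_⟩
    obtain ⟨z', hz'⟩ := (γ⁻¹ * α).surjective z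
    rw [← hz']
    show (γ⁻¹ * α) z' * (γ⁻¹ * α) y = (γ⁻¹ * α) y * (γ⁻¹ * α) z'
    rw [← map_mul, ← map_mul, hy.2 z' ((hQ z').2 (show (γ⁻¹ * α) z' ∈ P by rw [hz']; exact hz))]
  have himg : ∀ y, y ∈ Tgrp hF h.ee →
      γ y ∈ Tgrp hF (u := k • e) ((herm_smul_SU k e e).trans h.ee) := by
    intro y hy
    obtain ⟨c, hc, rfl⟩ := (mem_Tgrp hF).1 hy
    show piU n F q k * piU n F q (tv hF h.ee hc) * (piU n F q k)⁻¹ ∈ _
    rw [← map_inv, ← map_mul, ← map_mul, conj_tv]
    exact tv_mem_Tgrp hF _ hc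
  apply le_antisymm
  · rintro _ ⟨y, hy, rfl⟩
    have := himg _ (hT y hy)
    rwa [MulAut.apply_inv_self] at this
  · intro y hy
    obtain ⟨c, hc, rfl⟩ := (mem_Tgrp hF).1 hy
    obtain ⟨⟨z, hz⟩, hz'⟩ := (Finite.injective_iff_surjective.1
      (fun (a b : Tgrp hF h.ee) (e : (⟨_, hT a a.2⟩ : Tgrp hF h.ee) = ⟨_, hT b b.2⟩) =>
        Subtype.ext (α.injective ((γ⁻¹).injective (congrArg Subtype.val e)))))
      ⟨_, tv_mem_Tgrp hF h.ee hc⟩
    refine ⟨z, hz, ?_⟩
    have h1 : γ⁻¹ (α z) = piU n F q (tv hF h.ee hc) := congrArg Subtype.val hz'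
    show α z = _
    rw [← MulAut.apply_inv_self _ γ (α z), h1]
    show piU n F q k * piU n F q (tv hF h.ee hc) * (piU n F q k)⁻¹ = _
    rw [← map_inv, ← map_mul, ← map_mul, conj_tv]

/-- A normal `p`-subgroup of the stabiliser of a point lies in the radical. -/
theorem le_Ugrp_of_normal (hn : 2 ≤ n) {S : Finset (Fin n)} {e f : Fin n → F} (h : HPair q e f)
    (hS : Frame q S e f) (M : Subgroup (PSU n F q)) (hM : M ≤ stab hn hF e) (hp : IsPGroup p M)
    (hnorm : ∀ x ∈ stab hn hF e, ∀ y ∈ M, x * y * x⁻¹ ∈ M) : M ≤ Ugrp hF h := by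
  classical
  -- every lift has eigenvalue of norm one at `e`
  have hlift : ∀ g : SU n F q, piU n F q g ∈ M → ∃ a : F, a * a ^ q = 1 ∧ g • e = a • e := by
    intro g hg
    obtain ⟨a, -, hge⟩ := (mem_stab hF hn).1 (hM hg)
    obtain ⟨k, hk⟩ := hp ⟨_, hg⟩
    have hk' : piU n F q g ^ p ^ k = 1 := congrArg Subtype.val hk
    rw [← map_pow, ← map_one (piU n F q)] at hk'
    obtain ⟨r, hr⟩ := (piU_eq_iff hF hn).1 hk'.symm
    have hr' : ∀ x : Fin n → F, g ^ p ^ k • x = r • x := fun x => by rw [hr, one_smul]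
    refine ⟨a, norm_eq_one_of_pow hF p (scalar_norm hF hr' h) (N := p ^ k) (k := k) rfl ?_, hge⟩
    have := (pow_smul_eigen hge (p ^ k)).symm.trans (hr' e)
    exact smul_left_injective F h.e_ne this
  have hprj : ∀ (g : SU n F q) (a : F), g • e = a • e → ∀ x, herm q x e = 0 →
      prj q e f (g • x) = prj q e f (g • prj q e f x) := by
    intro g a hge x hx
    have hx' : x = herm q x f • e + prj q e f x := by
      conv_lhs => rw [eq_prj (q := q) e f x, hx, zero_smul, add_zero]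
    have he : prj q e f e = 0 := by simp [prj, h.ee, h.ef]
    conv_lhs => rw [hx', smul_add, smul_comm, hge, prj_add hF, prj_smul, prj_smul, he]
    simp
  have hperp : ∀ (g : SU n F q) (a : F), a ≠ 0 → g • e = a • e → ∀ w, herm q w e = 0 →
      herm q (g • w) e = 0 := by
    intro g a ha0 hge w hw
    have h1 := herm_smul_SU g w e
    rw [hge, herm_smul_right hF, hw] at h1
    exact (mul_eq_zero.1 h1).resolve_left (pow_ne_zero _ ha0)
  -- the linear action of `M` on the complement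
  let T : Type u := {w : Fin n → F // Orth2 q e f w}
  have hchoice : ∀ m : M, ∃ (g : SU n F q) (a : F), piU n F q g = (m : PSU n F q) ∧
      a * a ^ q = 1 ∧ g • e = a • e := by
    intro m
    obtain ⟨g, hg⟩ := piU_surjective (m : PSU n F q)
    obtain ⟨a, ha⟩ := hlift g (by rw [hg]; exact m.2)
    exact ⟨g, a, hg, ha⟩
  choose G A hG hA hGe using hchoice
  have hA0 : ∀ m, A m ≠ 0 := fun m hz => by simpa [hz] using hA m
  let act : M → T → T := fun m w => ⟨(A m)⁻¹ • prj q e f (G m • w.1),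
    (orth2_prj hF h _).smul' hF _⟩
  have hindep : ∀ (m : M) (g : SU n F q) (a : F), piU n F q g = (m : PSU n F q) →
      g • e = a • e → ∀ w : T, (act m w).1 = a⁻¹ • prj q e f (g • w.1) := by
    intro m g a hg hge w
    obtain ⟨r, hr⟩ := (piU_eq_iff hF hn).1 (hg.trans (hG m).symm)
    have hA' : A m = r * a :=
      smul_left_injective F h.e_ne (show A m • e = (r * a) • e by rw [← hGe, hr, hge, smul_smul])
    have hr0 : r ≠ 0 := left_ne_zero_of_mul (hA' ▸ hA0 m)
    show (A m)⁻¹ • prj q e f (G m • w.1) = _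
    rw [hA', hr, prj_smul, smul_smul]
    congr 1
    field_simp
  have hmul : ∀ (a b : M) (w : T), act (a * b) w = act a (act b w) := by
    intro a b w
    apply Subtype.ext
    rw [hindep (a * b) (G a * G b) (A b * A a) (by rw [map_mul, hG, hG]; rfl)
      (by rw [mul_smul, hGe, smul_comm, hGe, smul_smul]) w, mul_smul,
      hprj (G a) (A a) (hGe a) _ (hperp (G b) (A b) (hA0 b) (hGe b) _ w.2.1)]
    show _ = (A a)⁻¹ • prj q e f (G a • ((A b)⁻¹ • prj q e f (G b • w.1)))
    rw [smul_comm (G a), prj_smul, smul_smul, _root_.mul_inv_rev]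
  have hone : ∀ w : T, act 1 w = w := by
    intro w
    apply Subtype.ext
    rw [hindep 1 1 1 (map_one _) (by simp) w, one_smul, inv_one, one_smul, prj_of_orth2 w.2]
  letI : MulAction M T := { smul := act, one_smul := hone, mul_smul := hmul }
  let W : Submodule F (Fin n → F) :=
    { carrier := {w | ∃ hw : Orth2 q e f w, (⟨w, hw⟩ : T) ∈ MulAction.fixedPoints M T}
      add_mem' := by
        rintro x y ⟨hx, fx⟩ ⟨hy, fy⟩
        refine ⟨hx.add hy, fun m => Subtype.ext ?_⟩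
        have ex : (A m)⁻¹ • prj q e f (G m • x) = x := congrArg Subtype.val (fx m)
        have ey : (A m)⁻¹ • prj q e f (G m • y) = y := congrArg Subtype.val (fy m)
        show (A m)⁻¹ • prj q e f (G m • (x + y)) = x + y
        rw [smul_add, prj_add hF, smul_add, ex, ey]
      zero_mem' := ⟨orth2_zero e f, fun m => Subtype.ext (by
        show (A m)⁻¹ • prj q e f (G m • (0 : Fin n → F)) = 0
        simp [smul_zero, prj])⟩
      smul_mem' := by
        rintro c x ⟨hx, fx⟩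
        refine ⟨hx.smul' hF c, fun m => Subtype.ext ?_⟩
        have ex : (A m)⁻¹ • prj q e f (G m • x) = x := congrArg Subtype.val (fx m)
        show (A m)⁻¹ • prj q e f (G m • (c • x)) = c • x
        rw [smul_comm (G m), prj_smul, smul_comm, ex] }
  intro y hy
  obtain ⟨g, rfl⟩ := piU_surjective y
  obtain ⟨a, ha, hge⟩ := hlift g hy
  refine mem_Ugrp_of_trivial hF hn h ha hge fun w hw => ?_
  have ha0 : a ≠ 0 := fun hz => by simp [hz] at ha
  have hW : ∀ x ∈ W, Orth2 q e f x := fun x hx => hx.1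
  suffices hw' : w ∈ W by
    obtain ⟨hw'', fw⟩ := hw'
    have h1 : (act ⟨_, hy⟩ ⟨w, hw''⟩).1 = w := congrArg Subtype.val (fw ⟨_, hy⟩)
    rw [hindep ⟨_, hy⟩ g a rfl hge, inv_smul_eq_iff₀ ha0] at h1
    exact h1
  by_cases hw0 : w = 0
  · subst hw0; exact zero_mem W
  refine hS.irreducible hF hW ?_ ?_ hw
  · -- a nonzero fixed vector
    haveI : Finite T := inferInstance
    have hdvd : p ∣ Nat.card T := by
      let V : AddSubgroup (Fin n → F) :=
        { carrier := {x | Orth2 q e f x}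
          add_mem' := fun hx hy => hx.add hy
          zero_mem' := orth2_zero e f
          neg_mem' := fun {x} hx => by simpa using hx.smul' hF (-1 : F) }
      have hord : addOrderOf (⟨w, hw⟩ : V) = p :=
        addOrderOf_eq_prime (Subtype.ext (show p • w = 0 by
          rw [← Nat.cast_smul_eq_nsmul F, CharP.cast_eq_zero, zero_smul]))
          (fun hz => hw0 (congrArg Subtype.val hz))
      exact hord ▸ addOrderOf_dvd_natCard (G := V) _
    have h0 : (⟨0, orth2_zero e f⟩ : T) ∈ MulAction.fixedPoints M T := (zero_mem W).2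
    obtain ⟨b, hb, hne⟩ := hp.exists_fixed_point_of_prime_dvd_card_of_fixed_point T hdvd h0
    refine (Submodule.ne_bot_iff W).2 ⟨b.1, ⟨b.2, hb⟩, fun hz => hne (Subtype.ext hz.symm)⟩
  · rintro B hBe hBf x ⟨hx, fx⟩
    obtain ⟨l, s, hl, hse, -, hsw⟩ := exists_levi' hF h hBe hBf
    refine ⟨orth2_smul_fix hF hBe hBf hx, fun m => Subtype.ext ?_⟩
    have hsM : piU n F q s⁻¹ * (m : PSU n F q) * (piU n F q s⁻¹)⁻¹ ∈ M := by
      refine hnorm _ ((mem_stab hF hn).2 ⟨l⁻¹, inv_ne_zero hl, ?_⟩) _ m.2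
      rw [inv_smul_eq_iff, smul_comm, hse, smul_smul, inv_mul_cancel₀ hl, one_smul]
    have h1 : (act ⟨_, hsM⟩ ⟨x, hx⟩).1 = x := congrArg Subtype.val (fx ⟨_, hsM⟩)
    rw [hindep ⟨_, hsM⟩ (s⁻¹ * G m * s) (A m)
      (by
        show piU n F q (s⁻¹ * G m * s) =
          piU n F q s⁻¹ * (m : PSU n F q) * (piU n F q s⁻¹)⁻¹
        simp only [map_mul, hG, map_inv, inv_inv])
      (by
        rw [mul_smul, mul_smul, hse, smul_comm (G m) l, hGe, smul_smul, inv_smul_eq_iff,
          smul_comm, hse, smul_smul, mul_comm])] at h1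
    rw [inv_smul_eq_iff₀ (hA0 m)] at h1
    show (A m)⁻¹ • prj q e f (G m • (B • x)) = B • x
    rw [inv_smul_eq_iff₀ (hA0 m), ← hsw x hx]
    -- transport along `s`
    set y := s⁻¹ • (G m • (s • x)) with hy
    rw [show (s⁻¹ * G m * s) • (⟨x, hx⟩ : T).1 = y by simp only [hy, mul_smul]] at h1
    have hye : herm q y e = 0 := by
      have h3 : herm q (s • y) (s • e) = 0 := by
        rw [hy, smul_inv_smul, hse, herm_smul_right hF,
          hperp (G m) (A m) (hA0 m) (hGe m) _ (by rw [hsw x hx]; exact (orth2_smul_fix hF hBe hBf hx).1),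
          mul_zero]
      rwa [herm_smul_SU] at h3
    rw [show G m • s • x = s • y by rw [hy, smul_inv_smul], hprj s l hse y hye, h1, smul_comm,
      prj_smul, hsw x hx, prj_of_orth2 (orth2_smul_fix hF hBe hBf hx)]

end Cfsg.Agent.AutPSU
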