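import Mathlib
import Cfsg.Agent.AutPSU.Sylow
import Cfsg.Agent.AutPSU.Centraliser
import Cfsg.Agent.AutPSL.Field

/-!
An automorphism of `PSU_n(q)` can be normalised to fix two opposite root groups pointwise
(helper60).
-/

set_option autoImplicit false

namespace Cfsg.Agent.AutPSU

open Matrix Cfsg.Agent.Unitary
open Cfsg.Agent.AutPSL (fieldMap Induced)

universe u

variable {n q : ℕ} {F : Type u} [Field F] [Fintype F] (hF : Fintype.card F = q ^ 2)

theorem fieldMap_mem_GU {g : GL (Fin n) F} (hg : g ∈ GU n F q) (σ : F ≃+* F) :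
    fieldMap σ g ∈ GU n F q := by
  refine mem_GU_iff.2 fun x y => ?_
  obtain ⟨x, rfl⟩ := app_surjective (1 : GL (Fin n) F) σ x
  obtain ⟨y, rfl⟩ := app_surjective (1 : GL (Fin n) F) σ y
  have h := fun v : Fin n → F => app_act (1 : GL (Fin n) F) σ g v
  simp only [AutPSL.act_apply, one_mul, inv_one, mul_one] at h
  rw [h, h, herm_app (one_mem (GU n F q)), herm_app (one_mem (GU n F q)),
    mem_GU_iff.1 hg]

/-- `α` is induced by a semilinear isometry. -/
def Good (α : MulAut (PSU n F q)) : Prop :=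
  ∃ (g : GL (Fin n) F) (σ : F ≃+* F), g ∈ GU n F q ∧ IsSemi g σ α

theorem Good.of_inv_mul {α β : MulAut (PSU n F q)} (hβ : Good β) (h : Good (β⁻¹ * α)) : Good α := by
  obtain ⟨g, σ, hg, hgs⟩ := hβ
  obtain ⟨g', σ', hg', hgs'⟩ := h
  have h3 := hgs.comp (normalises_psu hg' σ') hgs'
  rw [mul_inv_cancel_left] at h3
  exact ⟨_, _, mul_mem hg (fieldMap_mem_GU hg' σ), h3⟩

theorem Tgrp_smul {u u' : Fin n → F} {hu : herm q u u = 0} {hu' : herm q u' u' = 0} {a : F}
    (ha : a ≠ 0) (h : a • u = u') : Tgrp hF hu' = Tgrp hF hu := by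
  rw [Tgrp, Tgrp, rootGroup_eq hF ha h]

include hF in
theorem HPair.of_nonorth {u v : Fin n → F} (hu : herm q u u = 0) (hv : herm q v v = 0)
    (huv : herm q u v ≠ 0) : HPair q u ((herm q u v ^ q)⁻¹ • v) := by
  refine ⟨hu, by rw [herm_smul_left, herm_smul_right hF, hv, mul_zero, mul_zero], ?_⟩
  rw [herm_smul_right hF, inv_pow, pow_q_pow_q hF, inv_mul_cancel₀ huv]

include hF in
theorem tv_zero_eq_one {u : Fin n → F} (hu : herm q u u = 0) {c : F} (hc : c + c ^ q = 0)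
    (h0 : c = 0) : tv hF hu hc = 1 :=
  eq_of_smul_eq_SU fun x => by rw [tv_smul, h0, one_smul]; simp

/-- A root element determines its point. -/
theorem point_of_tv (hn : 2 ≤ n) {e f u : Fin n → F} (h : HPair q e f) (hu : herm q u u = 0)
    (hu0 : u ≠ 0) {c c' : F} (hc0 : c ≠ 0) (hc : c + c ^ q = 0) (hc' : c' + c' ^ q = 0)
    (he : piU n F q (tv hF hu hc) = piU n F q (tv hF h.ee hc')) :
    ∃ a : F, a ≠ 0 ∧ u = a • e := by
  have h2 := piU_Qel_eq hF hn h.e_ne he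
  change tv hF hu hc = tv hF h.ee hc' at h2
  have h3 := congrArg (fun k : SU n F q => k • f) h2
  simp only [tv_smul, add_right_inj, h.fe hF, mul_one] at h3
  by_cases hfu : herm q f u = 0
  · exfalso
    rw [hfu, mul_zero, zero_smul] at h3
    have hc'0 : c' = 0 := by
      have := h3.symm
      rwa [smul_eq_zero, or_iff_left h.e_ne] at this
    obtain ⟨v, -, -, huv⟩ := exists_partner hF (S := ∅) (u := u) (by simp [supp_empty]) hu hu0
    have h4 := congrArg (fun k : SU n F q => k • v) h2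
    simp only [tv_smul, hc'0, herm_one_swap hF huv, mul_one, zero_mul, zero_smul, add_zero,
      add_eq_left] at h4
    exact smul_ne_zero hc0 hu0 h4
  · refine ⟨(c * herm q f u)⁻¹ * c', mul_ne_zero (inv_ne_zero (mul_ne_zero hc0 hfu)) fun hz => ?_, ?_⟩
    · rw [hz, zero_smul, smul_eq_zero] at h3
      exact h3.elim (mul_ne_zero hc0 hfu) hu0
    · rw [mul_smul, ← h3, inv_smul_smul₀ (mul_ne_zero hc0 hfu)]

theorem tv_comm_of_orth {u v : Fin n → F} (hu : herm q u u = 0) (hv : herm q v v = 0)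
    (huv : herm q u v = 0) {c d : F} (hc : c + c ^ q = 0) (hd : d + d ^ q = 0) :
    tv hF hu hc * tv hF hv hd = tv hF hv hd * tv hF hu hc := by
  refine eq_of_smul_eq_SU fun x => ?_
  simp only [mul_smul, tv_smul, herm_add_left, herm_smul_left, huv, (herm_eq_zero_comm hF).1 huv]
  module

theorem IsSemi.map_tv {g : GL (Fin n) F} (hg : g ∈ GU n F q) {σ : F ≃+* F}
    {β : MulAut (PSU n F q)} (hβ : IsSemi g σ β) {u u' : Fin n → F} {hu : herm q u u = 0}
    {hu' : herm q u' u' = 0} {a : F} (eu : app g σ u = a • u') {c c' : F} {hc : c + c ^ q = 0}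
    {hc' : c' + c' ^ q = 0} (ec : a * a ^ q * σ c = c') :
    β (piU n F q (tv hF hu hc)) = piU n F q (tv hF hu' hc') := by
  have h0 : app g σ (0 : Fin n → F) = 0 := by
    have := app_smul g σ 0 (0 : Fin n → F)
    simpa using this
  have hw : herm q (app g σ u) (app g σ u) = 0 := by rw [herm_app hg, hu, map_zero]
  have hσc : σ c + σ c ^ q = 0 := by rw [← map_pow, ← map_add, hc, map_zero]
  refine (hβ.map_Qel hF hg (u := u) (w := 0) (b := c) rfl h0 rfl
    (hu' := hw) (hwu' := herm_zero_left _) (hb' := tv_cond hσc)).trans (congrArg _ ?_)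
  refine eq_of_smul_eq_SU fun x => ?_
  change tv hF hw hσc • x = tv hF hu' hc' • x
  rw [tv_smul, tv_smul, eu, herm_smul_right hF, smul_smul, ← ec]
  congr 2; ring

theorem IsSemi.map_Tgrp {g : GL (Fin n) F} (hg : g ∈ GU n F q) {σ : F ≃+* F}
    {β : MulAut (PSU n F q)} (hβ : IsSemi g σ β) {u u' : Fin n → F} {hu : herm q u u = 0}
    {hu' : herm q u' u' = 0} {a : F} (ha : a ≠ 0) (eu : app g σ u = a • u') :
    (Tgrp hF hu).map β.toMonoidHom = Tgrp hF hu' := by
  apply le_antisymm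
  · rintro _ ⟨x, hx, rfl⟩
    obtain ⟨c, hc, rfl⟩ := (mem_Tgrp hF).1 hx
    have hc' : a * a ^ q * σ c + (a * a ^ q * σ c) ^ q = 0 := by
      rw [mul_pow, mul_pow, pow_q_pow_q hF, ← map_pow]
      have : σ c + σ (c ^ q) = 0 := by rw [← map_add, hc, map_zero]
      linear_combination (a * a ^ q) * this
    exact (hβ.map_tv hF hg eu (c := c) (hc' := hc') rfl).symm ▸ tv_mem_Tgrp hF hu' hc'
  · intro y hy
    obtain ⟨c, hc, rfl⟩ := (mem_Tgrp hF).1 hy
    have hn : (a * a ^ q) ^ q = a * a ^ q := by rw [mul_pow, pow_q_pow_q hF, mul_comm]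
    set c₀ := σ.symm ((a * a ^ q)⁻¹ * c) with hc0
    have hc₀ : c₀ + c₀ ^ q = 0 := by
      apply σ.injective
      rw [map_add, map_pow, hc0, σ.apply_symm_apply, map_zero, mul_pow, inv_pow, hn]
      linear_combination (a * a ^ q)⁻¹ * hc
    refine ⟨_, tv_mem_Tgrp hF hu hc₀, hβ.map_tv hF hg eu ?_⟩
    rw [hc0, σ.apply_symm_apply, ← mul_assoc,
      mul_inv_cancel₀ (mul_ne_zero ha (pow_ne_zero _ ha)), one_mul]

include hF in
theorem exists_θ : ∃ θ : F, θ ≠ 0 ∧ θ + θ ^ q = 0 := exists_trace_zero_ne_zero hF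

theorem fixed_mul_cond {t c : F} (ht : t ^ q = t) (hc : c + c ^ q = 0) :
    t * c + (t * c) ^ q = 0 := by rw [mul_pow, ht]; linear_combination t * hc

/-- First normalisation: the two root groups are fixed setwise. -/
theorem exists_fix_groups (hn : 2 ≤ n) {e f : Fin n → F} (h : HPair q e f)
    (α : MulAut (PSU n F q)) :
    ∃ β : MulAut (PSU n F q), Good β ∧
      (Tgrp hF h.ee).map (β⁻¹ * α).toMonoidHom = Tgrp hF h.ee ∧
      (Tgrp hF h.ff).map (β⁻¹ * α).toMonoidHom = Tgrp hF h.ff := by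
  obtain ⟨p, k, hp, -, hc, -⟩ := exists_prime_pow hF
  haveI := hc
  haveI := Fact.mk hp
  obtain ⟨k₁, hk₁⟩ := exists_conj_of_Tgrp hF p hn h α
  obtain ⟨k₂, hk₂⟩ := exists_conj_of_Tgrp hF p hn (h.swap hF) α
  have hxx : herm q (k₁ • e) (k₁ • e) = 0 := (herm_smul_SU k₁ e e).trans h.ee
  have hyy : herm q (k₂ • f) (k₂ • f) = 0 := (herm_smul_SU k₂ f f).trans h.ff
  have hne : herm q (k₁ • e) (k₂ • f) ≠ 0 := by
    intro h0
    obtain ⟨θ, hθ0, hθ⟩ := exists_θ hF
    have m1 : α (piU n F q (tv hF h.ee hθ)) ∈ Tgrp hF hxx :=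
      hk₁ ▸ Subgroup.mem_map_of_mem _ (tv_mem_Tgrp hF h.ee hθ)
    have m2 : α (piU n F q (tv hF h.ff hθ)) ∈ Tgrp hF hyy :=
      hk₂ ▸ Subgroup.mem_map_of_mem _ (tv_mem_Tgrp hF h.ff hθ)
    obtain ⟨c, hc, hc'⟩ := (mem_Tgrp hF).1 m1
    obtain ⟨d, hd, hd'⟩ := (mem_Tgrp hF).1 m2
    have hcomm : piU n F q (tv hF h.ff hθ) * piU n F q (tv hF h.ee hθ) =
        piU n F q (tv hF h.ee hθ) * piU n F q (tv hF h.ff hθ) := by
      apply α.injective
      rw [map_mul, map_mul, hc', hd', ← map_mul, ← map_mul, tv_comm_of_orth hF hxx hyy h0 hc hd]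
    obtain ⟨a, -, hge⟩ := fix_of_comm hF hn h hθ0 hθ hcomm
    rw [tv_smul, h.ef, mul_one] at hge
    have := congrArg (fun x => herm q x e) hge
    simp only [herm_add_left, herm_smul_left, h.ee, h.fe hF, mul_zero, zero_add, mul_one] at this
    exact hθ0 this
  have h' := HPair.of_nonorth hF hxx hyy hne
  obtain ⟨g, -, hge, hgf⟩ := exists_fixGU_pair hF (S := ∅) (u := e) (v := f)
    (by simp [supp_empty]) (by simp [supp_empty]) (by simp [supp_empty]) (by simp [supp_empty])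
    h.ee h.ff h.ef h'.ee h'.ff h'.ef
  obtain ⟨β, hβ⟩ := AutPSL.exists_induced (S := SU n F q) rho_injective
    (normalises_psu g.2 (1 : F ≃+* F))
  have e1 : app (g : GL (Fin n) F) 1 e = (1 : F) • (k₁ • e) := by rw [one_smul]; exact hge
  have e2 : app (g : GL (Fin n) F) 1 f = (herm q (k₁ • e) (k₂ • f) ^ q)⁻¹ • (k₂ • f) := hgf
  refine ⟨β, ⟨_, _, g.2, hβ⟩, ?_, ?_⟩
  · have h1 : (Tgrp hF h.ee).map β.toMonoidHom = Tgrp hF hxx :=
      IsSemi.map_Tgrp hF g.2 hβ one_ne_zero e1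
    rw [show (β⁻¹ * α).toMonoidHom = (β⁻¹).toMonoidHom.comp α.toMonoidHom from rfl,
      ← Subgroup.map_map, hk₁, ← h1, Subgroup.map_map,
      show (β⁻¹).toMonoidHom.comp β.toMonoidHom = MonoidHom.id _ from
        MonoidHom.ext fun x => β.symm_apply_apply x, Subgroup.map_id]
  · have h1 : (Tgrp hF h.ff).map β.toMonoidHom = Tgrp hF hyy :=
      IsSemi.map_Tgrp hF g.2 hβ (inv_ne_zero (pow_ne_zero _ hne)) e2
    rw [show (β⁻¹ * α).toMonoidHom = (β⁻¹).toMonoidHom.comp α.toMonoidHom from rfl,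
      ← Subgroup.map_map, hk₂, ← h1, Subgroup.map_map,
      show (β⁻¹).toMonoidHom.comp β.toMonoidHom = MonoidHom.id _ from
        MonoidHom.ext fun x => β.symm_apply_apply x, Subgroup.map_id]

/-- `x(c) y(d) x(c)` moves the point of `e` to that of `f` only if `c d = -1`. -/
theorem cd_eq_neg_one {e f : Fin n → F} (h : HPair q e f) {c d : F} (hc : c + c ^ q = 0)
    (hd : d + d ^ q = 0) {a : F}
    (ha : (tv hF h.ee hc * tv hF h.ff hd * tv hF h.ee hc) • e = a • f) : c * d = -1 := by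
  simp only [mul_smul, tv_smul, herm_add_left, herm_smul_left, h.ee, h.ff, h.ef, h.fe hF] at ha
  have := congrArg (fun x => herm q x f) ha
  simp only [herm_add_left, herm_smul_left, h.ff, h.ef] at this
  linear_combination this

theorem ww_smul_e {e f : Fin n → F} (h : HPair q e f) {c d : F} (hc : c + c ^ q = 0)
    (hd : d + d ^ q = 0) (hcd : c * d = -1) :
    (tv hF h.ee hc * tv hF h.ff hd * tv hF h.ee hc) • e = d • f ∧
      (tv hF h.ee hc * tv hF h.ff hd * tv hF h.ee hc) • f = c • e := by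
  constructor <;>
  · simp only [mul_smul, tv_smul, herm_add_left, herm_smul_left, h.ee, h.ff, h.ef, h.fe hF]
    match_scalars <;>
      first | ring1 | linear_combination hcd | linear_combination c * hcd | linear_combination d * hcd

/-- Second normalisation: the two root groups are fixed pointwise. -/
theorem exists_fix_pointwise (hn : 2 ≤ n) {S : Finset (Fin n)} {e f : Fin n → F}
    (h : HPair q e f) (hS : Frame q S e f) (α : MulAut (PSU n F q))
    (he : (Tgrp hF h.ee).map α.toMonoidHom = Tgrp hF h.ee)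
    (hf : (Tgrp hF h.ff).map α.toMonoidHom = Tgrp hF h.ff) :
    ∃ β : MulAut (PSU n F q), Good β ∧
      (∀ c (hc : c + c ^ q = 0), (β⁻¹ * α) (piU n F q (tv hF h.ee hc)) =
        piU n F q (tv hF h.ee hc)) ∧
      (∀ c (hc : c + c ^ q = 0), (β⁻¹ * α) (piU n F q (tv hF h.ff hc)) =
        piU n F q (tv hF h.ff hc)) := by
  classical
  obtain ⟨θ, hθ0, hθ⟩ := exists_θ hF
  have hθq : θ ^ q = -θ := eq_neg_of_add_eq_zero_right hθ
  set θ₁ := -θ⁻¹ with hθ₁d
  have hθ₁ : θ₁ + θ₁ ^ q = 0 := by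
    rw [hθ₁d, neg_pow_q hF, inv_pow, hθq]; field_simp; ring
  have hθ₁0 : θ₁ ≠ 0 := neg_ne_zero.2 (inv_ne_zero hθ0)
  have hdiv : ∀ {c θ : F}, c + c ^ q = 0 → θ ≠ 0 → θ + θ ^ q = 0 → (c / θ) ^ q = c / θ := by
    intro c θ hc h0 hθ
    rw [div_pow, eq_neg_of_add_eq_zero_right hc, eq_neg_of_add_eq_zero_right hθ, neg_div_neg_eq]
  let K := RingHom.eqLocusField (conjHom hF) (RingHom.id F)
  have hK : ∀ t : K, (t : F) ^ q = t := fun t => t.2
  have hcoordE : ∀ t : K, ∃ s : K, α (piU n F q (tv hF h.ee (fixed_mul_cond (hK t) hθ))) =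
      piU n F q (tv hF h.ee (fixed_mul_cond (hK s) hθ)) := by
    intro t
    obtain ⟨c, hc, hcc⟩ := (mem_Tgrp hF).1
      (he ▸ Subgroup.mem_map_of_mem α.toMonoidHom (tv_mem_Tgrp hF h.ee (fixed_mul_cond (hK t) hθ)))
    refine ⟨⟨c / θ, hdiv hc hθ0 hθ⟩, hcc.trans (congrArg _ ?_)⟩
    refine eq_of_smul_eq_SU fun x => ?_
    rw [tv_smul, tv_smul, div_mul_cancel₀ c hθ0]
  have hcoordF : ∀ t : K, ∃ s : K, α (piU n F q (tv hF h.ff (fixed_mul_cond (hK t) hθ₁))) =
      piU n F q (tv hF h.ff (fixed_mul_cond (hK s) hθ₁)) := by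
    intro t
    obtain ⟨c, hc, hcc⟩ := (mem_Tgrp hF).1
      (hf ▸ Subgroup.mem_map_of_mem α.toMonoidHom (tv_mem_Tgrp hF h.ff (fixed_mul_cond (hK t) hθ₁)))
    refine ⟨⟨c / θ₁, hdiv hc hθ₁0 hθ₁⟩, hcc.trans (congrArg _ ?_)⟩
    refine eq_of_smul_eq_SU fun x => ?_
    rw [tv_smul, tv_smul, div_mul_cancel₀ c hθ₁0]
  choose μ hμ using hcoordE
  choose ν hν using hcoordF
  have injE : ∀ {s t : K}, piU n F q (tv hF h.ee (fixed_mul_cond (hK s) hθ)) =
      piU n F q (tv hF h.ee (fixed_mul_cond (hK t) hθ)) → s = t := fun he =>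
    Subtype.ext (mul_right_cancel₀ hθ0 (Qel_inj hF h (orth2_zero e f) (orth2_zero e f)
      (piU_Qel_eq hF hn h.e_ne he)).2)
  have injF : ∀ {s t : K}, piU n F q (tv hF h.ff (fixed_mul_cond (hK s) hθ₁)) =
      piU n F q (tv hF h.ff (fixed_mul_cond (hK t) hθ₁)) → s = t := fun he =>
    Subtype.ext (mul_right_cancel₀ hθ₁0 (Qel_inj hF (h.swap hF) (orth2_zero f e) (orth2_zero f e)
      (piU_Qel_eq hF hn (h.swap hF).e_ne he)).2)
  have addE : ∀ s t : K, piU n F q (tv hF h.ee (fixed_mul_cond (hK (s + t)) hθ)) =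
      piU n F q (tv hF h.ee (fixed_mul_cond (hK s) hθ)) *
        piU n F q (tv hF h.ee (fixed_mul_cond (hK t) hθ)) := by
    intro s t
    rw [← map_mul]
    refine congrArg _ (eq_of_smul_eq_SU fun x => ?_)
    simp only [mul_smul, tv_smul, herm_add_left, herm_smul_left, h.ee, Subfield.coe_add]
    module
  have addF : ∀ s t : K, piU n F q (tv hF h.ff (fixed_mul_cond (hK (s + t)) hθ₁)) =
      piU n F q (tv hF h.ff (fixed_mul_cond (hK s) hθ₁)) *
        piU n F q (tv hF h.ff (fixed_mul_cond (hK t) hθ₁)) := by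
    intro s t
    rw [← map_mul]
    refine congrArg _ (eq_of_smul_eq_SU fun x => ?_)
    simp only [mul_smul, tv_smul, herm_add_left, herm_smul_left, h.ff, Subfield.coe_add]
    module
  let μ' : K →+ K := AddMonoidHom.mk' μ fun s t => injE (by
    rw [← hμ, addE, map_mul, hμ, hμ, ← addE])
  let ν' : K →+ K := AddMonoidHom.mk' ν fun s t => injF (by
    rw [← hν, addF, map_mul, hν, hν, ← addF])
  have hμinj : Function.Injective μ' := fun s t hst => injE (α.injective (by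
    rw [hμ, hμ, show μ s = μ t from hst]))
  -- the swap relation
  have hrel : ∀ t u : K, t * u = 1 → μ t * ν u = 1 := by
    intro t u htu
    have htu' : ((t : F) * θ) * ((u : F) * θ₁) = -1 := by
      have : (t : F) * u = 1 := by exact_mod_cast congrArg Subtype.val htu
      rw [hθ₁d]; field_simp; linear_combination -this
    set W := tv hF h.ee (fixed_mul_cond (hK t) hθ) * tv hF h.ff (fixed_mul_cond (hK u) hθ₁) *
      tv hF h.ee (fixed_mul_cond (hK t) hθ) with hW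
    set W' := tv hF h.ee (fixed_mul_cond (hK (μ t)) hθ) * tv hF h.ff (fixed_mul_cond (hK (ν u)) hθ₁) *
      tv hF h.ee (fixed_mul_cond (hK (μ t)) hθ) with hW'
    have hWα : α (piU n F q W) = piU n F q W' := by
      simp only [hW, hW', map_mul, hμ, hν]
    have hWe := (ww_smul_e hF h (fixed_mul_cond (hK t) hθ) (fixed_mul_cond (hK u) hθ₁) htu').1
    rw [← hW] at hWe
    have hu0 : (u : F) * θ₁ ≠ 0 := fun hz => by rw [hz, mul_zero] at htu'; simp at htu'
    -- `W` conjugates a root element at `e` into the root group at `f`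
    have hmem : piU n F q (W * tv hF h.ee hθ * W⁻¹) ∈ Tgrp hF h.ff := by
      rw [conj_tv, ← Tgrp_smul hF (hu := h.ff) (hu' := (herm_smul_SU W e e).trans h.ee) hu0 hWe.symm]
      exact tv_mem_Tgrp hF _ hθ
    obtain ⟨c, hc, hcc⟩ := (mem_Tgrp hF).1
      (he ▸ Subgroup.mem_map_of_mem α.toMonoidHom (tv_mem_Tgrp hF h.ee hθ))
    change α (piU n F q (tv hF h.ee hθ)) = _ at hcc
    have hc0 : c ≠ 0 := by
      intro hz
      rw [tv_zero_eq_one hF h.ee hc hz, map_one, map_eq_one_iff α α.injective,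
        ← map_one (piU n F q), ← tv_zero_eq_one hF h.ee (c := 0) (by simp [zero_pow_q hF]) rfl]
        at hcc
      exact hθ0 (Qel_inj hF h (orth2_zero e f) (orth2_zero e f) (piU_Qel_eq hF hn h.e_ne hcc)).2
    obtain ⟨d, hd, hdd⟩ := (mem_Tgrp hF).1 (hf ▸ Subgroup.mem_map_of_mem α.toMonoidHom hmem)
    change α (piU n F q (W * tv hF h.ee hθ * W⁻¹)) = _ at hdd
    rw [map_mul, map_mul, map_inv, map_mul, map_mul, map_inv, hWα, hcc, ← map_inv, ← map_mul,
      ← map_mul, conj_tv] at hdd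
    obtain ⟨a, -, ha⟩ := point_of_tv hF hn (h.swap hF) ((herm_smul_SU W' e e).trans h.ee)
      (smul_ne_zero_iff_ne W' |>.2 h.e_ne) hc0 hc hd hdd
    have h5 := cd_eq_neg_one hF h (fixed_mul_cond (hK (μ t)) hθ) (fixed_mul_cond (hK (ν u)) hθ₁) ha
    apply Subtype.ext
    show (μ t : F) * ν u = 1
    rw [hθ₁d] at h5
    field_simp at h5
    linear_combination -h5
  set m₁ := μ 1
  have hm₁ : m₁ ≠ 0 := fun hz => by
    have := hrel 1 1 (mul_one 1)
    rw [show μ 1 = 0 from hz, zero_mul] at this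
    exact zero_ne_one this
  let φ₀ : K →+ K := (AddMonoidHom.mulLeft m₁⁻¹).comp μ'
  let ψ₀ : K →+ K := (AddMonoidHom.mulLeft m₁).comp ν'
  have hφ₀inj : Function.Injective φ₀ := fun s t hst =>
    hμinj (mul_left_cancel₀ (inv_ne_zero hm₁) hst)
  have hrel' : ∀ t u : K, t * u = 1 → φ₀ t * ψ₀ u = 1 := by
    intro t u htu
    show (m₁⁻¹ * μ t) * (m₁ * ν u) = 1
    rw [mul_mul_mul_comm, inv_mul_cancel₀ hm₁, one_mul, hrel t u htu]
  have hψ1 : m₁ * ν 1 = 1 := hrel 1 1 (mul_one 1)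
  have hφ1 : φ₀ 1 = 1 := inv_mul_cancel₀ hm₁
  -- `ψ₀ = φ₀`: conjugation by the fixed swap
  have hEF : ∀ t : K, ψ₀ t = φ₀ t := by
    have hswap : ∀ s r t : K, s * r = 1 →
        piU n F q (tv hF h.ee (fixed_mul_cond (hK s) hθ) * tv hF h.ff (fixed_mul_cond (hK r) hθ₁) *
          tv hF h.ee (fixed_mul_cond (hK s) hθ)) * piU n F q (tv hF h.ff (fixed_mul_cond (hK t) hθ₁)) *
          (piU n F q (tv hF h.ee (fixed_mul_cond (hK s) hθ) * tv hF h.ff (fixed_mul_cond (hK r) hθ₁) *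
          tv hF h.ee (fixed_mul_cond (hK s) hθ)))⁻¹ =
        piU n F q (tv hF h.ee (fixed_mul_cond (hK (s * s * t)) hθ)) := by
      intro s r t hsr
      have hsr' : ((s : F) * θ) * ((r : F) * θ₁) = -1 := by
        have : (s : F) * r = 1 := by exact_mod_cast congrArg Subtype.val hsr
        rw [hθ₁d]; field_simp; linear_combination -this
      rw [← map_inv, ← map_mul, ← map_mul, conj_tv]
      refine congrArg _ (eq_of_smul_eq_SU fun x => ?_)
      rw [tv_smul, tv_smul, (ww_smul_e hF h (fixed_mul_cond (hK s) hθ) (fixed_mul_cond (hK r) hθ₁) hsr').2, herm_smul_right hF, mul_pow, hK, hθq,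
        smul_smul, Subfield.coe_mul, Subfield.coe_mul, hθ₁d]
      congr 2
      field_simp
    intro t
    have h1 := congrArg α (hswap 1 1 t (mul_one 1))
    simp only [map_mul, map_inv, hμ, hν] at h1
    have h2 := hswap (μ 1) (ν 1) (ν t) (hrel 1 1 (mul_one 1))
    simp only [map_mul] at h2
    have h3 := injE (h2.symm.trans h1)
    show m₁ * ν t = m₁⁻¹ * μ t
    rw [one_mul, one_mul] at h3
    rw [eq_inv_mul_iff_mul_eq₀ hm₁, ← mul_assoc, ← h3]
  have hinv : ∀ a : K, φ₀ a⁻¹ = (φ₀ a)⁻¹ := by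
    intro a
    by_cases ha : a = 0
    · simp [ha]
    rw [← hEF a⁻¹]
    exact eq_inv_of_mul_eq_one_right (hrel' a a⁻¹ (mul_inv_cancel₀ ha))
  let σ₀ : K ≃+* K :=
    { Equiv.ofBijective φ₀ (Finite.injective_iff_bijective.mp hφ₀inj) with
      map_mul' := AutPSL.hua φ₀ hφ₀inj hφ1 hinv
      map_add' := map_add φ₀ }
  obtain ⟨p, k, hp, -, hcp, -⟩ := exists_prime_pow hF
  haveI := hcp
  haveI := Fact.mk hp
  haveI : CharP K p := RingHom.charP (Subfield.subtype K) Subtype.val_injective p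
  obtain ⟨j, hj⟩ := AutPSL.exists_frobenius_pow (F := K) σ₀ (p := p)
  let σ : F ≃+* F := RingEquiv.ofBijective (iterateFrobenius F p j)
    (Finite.injective_iff_bijective.mp (RingHom.injective _))
  have hσ : ∀ t : K, σ (t : F) = (φ₀ t : K) := fun t => by
    show iterateFrobenius F p j (t : F) = _
    rw [iterateFrobenius_def, ← SubmonoidClass.coe_pow]
    exact congrArg Subtype.val (hj t).symm
  -- the correcting pair
  have hσθ : (σ θ / θ) ^ q = σ θ / θ := hdiv (by rw [← map_pow, ← map_add, hθ, map_zero]) hθ0 hθ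
  set r := σ θ / θ
  have hr0 : r ≠ 0 := div_ne_zero (by simpa using hθ0) hθ0
  obtain ⟨a, ha⟩ := exists_norm_eq hF (t := (m₁ : F) / r) (by rw [div_pow, hK, hσθ])
  have hm₁' : (m₁ : F) ≠ 0 := fun hz => hm₁ (Subtype.ext hz)
  have haN : a * a ^ q = (m₁ : F) / r := by rw [← ha, pow_succ']
  have ha0 : a ≠ 0 := fun hz => div_ne_zero hm₁' hr0 (by rw [← haN, hz, zero_mul])
  have hσe : ∀ x : Fin n → F, x ∈ supp Sᶜ → (⇑σ ∘ x) ∈ supp Sᶜ := fun x hx i hi => by
    simp [hx i hi]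
  have hsupp : e ∈ supp Sᶜ ∧ f ∈ supp Sᶜ :=
    ⟨fun i hi => (hS.eq_zero_of_notMem hF (Finset.mem_compl.1 hi)).1,
      fun i hi => (hS.eq_zero_of_notMem hF (Finset.mem_compl.1 hi)).2⟩
  obtain ⟨g₀, -, hg₀e, hg₀f⟩ := exists_fixGU_pair hF (S := Sᶜ) (hσe e hsupp.1) (hσe f hsupp.2)
    hsupp.1 hsupp.2 (by rw [herm_comp, h.ee, map_zero]) (by rw [herm_comp, h.ff, map_zero])
    (by rw [herm_comp, h.ef, map_one]) h.ee h.ff h.ef
  obtain ⟨D, -, hDe, hDf, -⟩ := exists_diag hF h ha0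
  obtain ⟨β, hβ⟩ := AutPSL.exists_induced (S := SU n F q) rho_injective
    (normalises_psu (D * g₀).2 σ)
  have happe : app ((D * g₀ : GU n F q) : GL (Fin n) F) σ e = a • e := by
    show (D * g₀) • (⇑σ ∘ e) = _
    rw [mul_smul, hg₀e, hDe]
  have happf : app ((D * g₀ : GU n F q) : GL (Fin n) F) σ f = (a ^ q)⁻¹ • f := by
    show (D * g₀) • (⇑σ ∘ f) = _
    rw [mul_smul, hg₀f, hDf]
  refine ⟨β, ⟨_, _, (D * g₀).2, hβ⟩, fun c hc => ?_, fun c hc => ?_⟩
  · obtain ⟨t, rfl⟩ : ∃ t : K, (t : F) * θ = c :=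
      ⟨⟨c / θ, hdiv hc hθ0 hθ⟩, div_mul_cancel₀ c hθ0⟩
    rw [MulAut.mul_apply, hμ, ← MulAut.inv_apply_self _ β (piU n F q (tv hF h.ee hc))]
    refine congrArg _ (IsSemi.map_tv hF (D * g₀).2 hβ happe ?_).symm
    have e1 : (μ t : F) = (m₁ : F) * σ t := by
      rw [hσ, ← Subfield.coe_mul]
      exact congrArg Subtype.val (show μ t = m₁ * (m₁⁻¹ * μ t) by
        rw [← mul_assoc, mul_inv_cancel₀ hm₁, one_mul])
    rw [haN, map_mul, e1, show σ θ = r * θ from (div_mul_cancel₀ _ hθ0).symm]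
    field_simp
  · obtain ⟨t, rfl⟩ : ∃ t : K, (t : F) * θ₁ = c :=
      ⟨⟨c / θ₁, hdiv hc hθ₁0 hθ₁⟩, div_mul_cancel₀ c hθ₁0⟩
    rw [MulAut.mul_apply, hν, ← MulAut.inv_apply_self _ β (piU n F q (tv hF h.ff hc))]
    refine congrArg _ (IsSemi.map_tv hF (D * g₀).2 hβ happf ?_).symm
    have e1 : (ν t : F) = (m₁ : F)⁻¹ * σ t := by
      rw [hσ, ← hEF t]
      show (ν t : F) = (m₁ : F)⁻¹ * ((m₁ : F) * (ν t : F))
      rw [← mul_assoc, inv_mul_cancel₀ hm₁', one_mul]
    rw [inv_pow, pow_q_pow_q hF, ← mul_inv, mul_comm (a ^ q) a, haN, map_mul, e1, hθ₁d, map_neg,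
      map_inv₀, show σ θ = r * θ from (div_mul_cancel₀ _ hθ0).symm]
    field_simp

end Cfsg.Agent.AutPSU
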