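import Mathlib
import Cfsg.Agent.AutPSU.TwoPoint

/-!
The automorphism group of `PSU_n(q)` is `PΓU_n(q)` (helper60).
-/

set_option autoImplicit false

namespace Cfsg.Agent.AutPSU

open Matrix Cfsg.Agent.Unitary

universe u

variable {n q : ℕ} {F : Type u} [Field F] [Fintype F] (hF : Fintype.card F = q ^ 2)

/-- `α` fixes the two root groups of the pair pointwise. -/
def FixPair {e f : Fin n → F} (h : HPair q e f) (α : MulAut (PSU n F q)) : Prop :=
  (∀ c (hc : c + c ^ q = 0), α (piU n F q (tv hF h.ee hc)) = piU n F q (tv hF h.ee hc)) ∧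
  (∀ c (hc : c + c ^ q = 0), α (piU n F q (tv hF h.ff hc)) = piU n F q (tv hF h.ff hc))

include hF

theorem conj_Qel_levi {e f w : Fin n → F} (h : HPair q e f) {l : F} {s : SU n F q}
    (hs : IsLevi q e f l s) (hw : Orth2 q e f w) {b : F} (hb : b + b ^ q = -herm q w w) :
    ∃ (hw' : Orth2 q e f (l ^ q • (s • w))) (hb' : l * l ^ q * b + (l * l ^ q * b) ^ q =
      -herm q (l ^ q • (s • w)) (l ^ q • (s • w))),
      s * Qel hF h.ee hw.1 hb * s⁻¹ = Qel hF h.ee hw'.1 hb' := by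
  obtain ⟨hl, hse, hsf⟩ := hs
  have h1 := herm_smul_SU s w e
  rw [hse, herm_smul_right hF, hw.1] at h1
  have h2 := herm_smul_SU s w f
  rw [hsf, herm_smul_right hF, hw.2] at h2
  have hswe : herm q (s • w) e = 0 := (mul_eq_zero.1 h1).resolve_left (pow_ne_zero _ hl)
  have hswf : herm q (s • w) f = 0 :=
    (mul_eq_zero.1 h2).resolve_left (pow_ne_zero _ (inv_ne_zero (pow_ne_zero _ hl)))
  have hbs : b + b ^ q = -herm q (s • w) (s • w) := by rw [herm_smul_SU]; exact hb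
  refine ⟨⟨by rw [herm_smul_left, hswe, mul_zero], by rw [herm_smul_left, hswf, mul_zero]⟩,
    rescale_cond hF hbs, ?_⟩
  rw [conj_Qel]
  refine eq_of_smul_eq_SU fun x => ?_
  simp only [Qel_smul, hse, herm_smul_right hF, pow_q_pow_q hF]
  generalize s • w = v
  match_scalars <;> ring

/-- The stabiliser of a point is the normaliser of its root group. -/
theorem mem_stab_iff_conj (hn : 2 ≤ n) {e f : Fin n → F} (h : HPair q e f) {x : PSU n F q} :
    x ∈ stab hn hF e ↔ ∀ y ∈ Tgrp hF h.ee, x * y * x⁻¹ ∈ Tgrp hF h.ee := by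
  refine ⟨fun hx y hy => conj_mem_Tgrp hF hn h hx hy, fun hx => ?_⟩
  obtain ⟨g, rfl⟩ := piU_surjective x
  obtain ⟨θ, hθ0, hθ⟩ := exists_θ hF
  obtain ⟨c, hc, hcc⟩ := (mem_Tgrp hF).1 (hx _ (tv_mem_Tgrp hF h.ee hθ))
  rw [← map_inv, ← map_mul, ← map_mul, conj_tv] at hcc
  obtain ⟨a, ha, hge⟩ := point_of_tv hF hn h ((herm_smul_SU g e e).trans h.ee)
    ((smul_ne_zero_iff_ne g).2 h.e_ne) hθ0 hθ hc hcc
  exact (mem_stab hF hn).2 ⟨a, ha, hge⟩

theorem FixPair.swap {e f : Fin n → F} {h : HPair q e f} {α : MulAut (PSU n F q)}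
    (hα : FixPair hF h α) : FixPair hF (h.swap hF) α := ⟨hα.2, hα.1⟩

theorem FixPair.mul {e f : Fin n → F} {h : HPair q e f} {α β : MulAut (PSU n F q)}
    (hα : FixPair hF h α) (hβ : FixPair hF h β) : FixPair hF h (α * β) :=
  ⟨fun c hc => by rw [MulAut.mul_apply, hβ.1 c hc, hα.1 c hc],
    fun c hc => by rw [MulAut.mul_apply, hβ.2 c hc, hα.2 c hc]⟩

theorem FixPair.inv {e f : Fin n → F} {h : HPair q e f} {α : MulAut (PSU n F q)}
    (hα : FixPair hF h α) : FixPair hF h α⁻¹ :=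
  ⟨fun c hc => by conv_lhs => rw [← hα.1 c hc, MulAut.inv_apply_self],
    fun c hc => by conv_lhs => rw [← hα.2 c hc, MulAut.inv_apply_self]⟩

theorem FixPair.stab_iff (hn : 2 ≤ n) {e f : Fin n → F} {h : HPair q e f}
    {α : MulAut (PSU n F q)} (hα : FixPair hF h α) (x : PSU n F q) :
    α x ∈ stab hn hF e ↔ x ∈ stab hn hF e := by
  rw [mem_stab_iff_conj hF hn h, mem_stab_iff_conj hF hn h]
  constructor
  · intro hx y hy
    obtain ⟨c, hc, rfl⟩ := (mem_Tgrp hF).1 hy
    obtain ⟨d, hd, hdd⟩ := (mem_Tgrp hF).1 (hx _ (tv_mem_Tgrp hF h.ee hc))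
    rw [← hα.1 c hc, ← map_inv, ← map_mul, ← map_mul, ← hα.1 d hd] at hdd
    rw [α.injective hdd]
    exact tv_mem_Tgrp hF h.ee hd
  · intro hx y hy
    obtain ⟨c, hc, rfl⟩ := (mem_Tgrp hF).1 hy
    obtain ⟨d, hd, hdd⟩ := (mem_Tgrp hF).1 (hx _ (tv_mem_Tgrp hF h.ee hc))
    rw [← hα.1 c hc, ← map_inv, ← map_mul, ← map_mul, hdd, hα.1 d hd]
    exact tv_mem_Tgrp hF h.ee hd

theorem isLevi_of_stab (hn : 2 ≤ n) {e f : Fin n → F} (h : HPair q e f) {s : SU n F q}
    (he : piU n F q s ∈ stab hn hF e) (hf : piU n F q s ∈ stab hn hF f) :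
    ∃ l, IsLevi q e f l s := by
  obtain ⟨l, hl, hse⟩ := (mem_stab hF hn).1 he
  obtain ⟨l', -, hsf⟩ := (mem_stab hF hn).1 hf
  refine ⟨l, hl, hse, ?_⟩
  have h1 := herm_smul_SU s f e
  rw [hse, hsf, herm_smul_left, herm_smul_right hF, h.fe hF, mul_one] at h1
  rw [hsf, eq_inv_of_mul_eq_one_left h1]

theorem mem_stab_of_isLevi (hn : 2 ≤ n) {e f : Fin n → F} {l : F} {s : SU n F q}
    (hs : IsLevi q e f l s) : piU n F q s ∈ stab hn hF e ∧ piU n F q s ∈ stab hn hF f :=
  ⟨(mem_stab hF hn).2 ⟨l, hs.1, hs.2.1⟩,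
    (mem_stab hF hn).2 ⟨_, inv_ne_zero (pow_ne_zero _ hs.1), hs.2.2⟩⟩

/-- The swap `x(c) y(-1/c) x(c)`. -/
theorem exists_swap_fixed {e f : Fin n → F} (h : HPair q e f) {α : MulAut (PSU n F q)}
    (hα : FixPair hF h α) {c : F} (hc0 : c ≠ 0) (hc : c + c ^ q = 0) :
    ∃ W : SU n F q, α (piU n F q W) = piU n F q W ∧ W • e = (-c⁻¹) • f ∧ W • f = c • e ∧
      ∀ w, Orth2 q e f w → W • w = w := by
  have hd : -c⁻¹ + (-c⁻¹) ^ q = 0 := by
    rw [neg_pow_q hF, inv_pow, eq_neg_of_add_eq_zero_right hc]; field_simp; ring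
  obtain ⟨h1, h2⟩ := ww_smul_e hF h hc hd (by field_simp)
  refine ⟨_, ?_, h1, h2, fun w hw => ?_⟩
  · simp only [map_mul, hα.1 c hc, hα.2 _ hd]
  · simp only [mul_smul, tv_smul, hw.1, hw.2, mul_zero, zero_smul, add_zero]

/-- The automorphism maps the radical to itself. -/
theorem FixPair.map_Ugrp (hn : 2 ≤ n) {S : Finset (Fin n)} {e f : Fin n → F} {h : HPair q e f}
    (hS : Frame q S e f) {α : MulAut (PSU n F q)} (hα : FixPair hF h α) {x : PSU n F q}
    (hx : x ∈ Ugrp hF h) : α x ∈ Ugrp hF h := by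
  obtain ⟨p, k, hp, -, hc, -⟩ := exists_prime_pow hF
  haveI := hc
  haveI := Fact.mk hp
  refine le_Ugrp_of_normal hF p hn h hS ((Ugrp hF h).map α.toMonoidHom) ?_
    ((isPGroup_Ugrp hF p h).map _) ?_ ⟨x, hx, rfl⟩
  · rintro _ ⟨y, hy, rfl⟩
    exact (hα.stab_iff hF hn y).2 (Ugrp_le_stab hF hn h hy)
  · rintro g hg _ ⟨y, hy, rfl⟩
    obtain ⟨g, rfl⟩ := α.surjective g
    refine ⟨g * y * g⁻¹, conj_mem_Ugrp hF hn h ((hα.stab_iff hF hn g).1 hg) hy, ?_⟩
    simp

theorem Qel_mul_tv {e f w : Fin n → F} (h : HPair q e f) (hw : Orth2 q e f w) {b d : F}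
    (hb : b + b ^ q = -herm q w w) (hd : d + d ^ q = 0) :
    ∃ hb' : b + d + (b + d) ^ q = -herm q w w,
      Qel hF h.ee hw.1 hb * tv hF h.ee hd = Qel hF h.ee hw.1 hb' := by
  refine ⟨by rw [add_pow_q hF]; linear_combination hb + hd, eq_of_smul_eq_SU fun x => ?_⟩
  simp only [mul_smul, Qel_smul, tv_smul, herm_add_left, herm_smul_left, h.ee, (hw.left hF).1]
  module

theorem Qel_commutator {e f w w' : Fin n → F} (h : HPair q e f) (hw : Orth2 q e f w)
    (hw' : Orth2 q e f w') {b b' : F} (hb : b + b ^ q = -herm q w w)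
    (hb' : b' + b' ^ q = -herm q w' w') :
    ∃ hd : herm q w w' - herm q w' w + (herm q w w' - herm q w' w) ^ q = 0,
      Qel hF h.ee hw.1 hb * Qel hF h.ee hw'.1 hb' =
        Qel hF h.ee hw'.1 hb' * Qel hF h.ee hw.1 hb * tv hF h.ee hd := by
  refine ⟨by rw [sub_pow_q hF, ← herm_swap hF w w', ← herm_swap hF w' w]; ring,
    eq_of_smul_eq_SU fun x => ?_⟩
  simp only [mul_smul, Qel_smul, tv_smul, herm_add_left, herm_sub_left, herm_smul_left, h.ee,
    hw.1, hw'.1, (hw.left hF).1, (hw'.left hF).1]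
  module

theorem piU_Qel_congr {e f w w' : Fin n → F} (h : HPair q e f) (hw : Orth2 q e f w) {b b' : F}
    (hb : b + b ^ q = -herm q w w) (hb' : b' + b' ^ q = -herm q w' w') (hw' : Orth2 q e f w')
    (e1 : w = w') (e2 : b = b') :
    piU n F q (Qel hF h.ee hw.1 hb) = piU n F q (Qel hF h.ee hw'.1 hb') :=
  congrArg _ (Qel_congr hF h.ee hw.1 hb hw'.1 hb' e1 e2)

theorem piU_Qel_inj (hn : 2 ≤ n) {e f w w' : Fin n → F} (h : HPair q e f) {hw : Orth2 q e f w}
    {hw' : Orth2 q e f w'} {b b' : F} {hb : b + b ^ q = -herm q w w}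
    {hb' : b' + b' ^ q = -herm q w' w'}
    (he : piU n F q (Qel hF h.ee hw.1 hb) = piU n F q (Qel hF h.ee hw'.1 hb')) :
    w = w' ∧ b = b' :=
  Qel_inj hF h hw hw' (piU_Qel_eq hF hn h.e_ne he)

/-- The data of an automorphism fixing the pair on the radical. -/
theorem exists_radical_map (hn : 2 ≤ n) {S : Finset (Fin n)} {e f : Fin n → F} {h : HPair q e f}
    (hS : Frame q S e f) {α : MulAut (PSU n F q)} (hα : FixPair hF h α) :
    ∃ (φ : (Fin n → F) → Fin n → F) (z : (Fin n → F) → F),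
      (∀ w, Orth2 q e f w → Orth2 q e f (φ w)) ∧
      ∀ w (hw : Orth2 q e f w) b (hb : b + b ^ q = -herm q w w),
        ∃ (hw' : Orth2 q e f (φ w))
          (hb' : b + z w + (b + z w) ^ q = -herm q (φ w) (φ w)),
          α (piU n F q (Qel hF h.ee hw.1 hb)) = piU n F q (Qel hF h.ee hw'.1 hb') := by
  classical
  choose B hB using exists_b hF (n := n)
  have himg : ∀ w (hw : Orth2 q e f w), ∃ (w' : Fin n → F) (hw' : Orth2 q e f w') (b' : F)
      (hb' : b' + b' ^ q = -herm q w' w'),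
      α (piU n F q (Qel hF h.ee hw.1 (hB w))) = piU n F q (Qel hF h.ee hw'.1 hb') :=
    fun w hw => (mem_Ugrp hF).1 (hα.map_Ugrp hF hn hS ⟨w, hw, B w, hB w, rfl⟩)
  choose W hW B' hB' hαW using himg
  refine ⟨fun w => if hw : Orth2 q e f w then W w hw else 0,
    fun w => if hw : Orth2 q e f w then B' w hw - B w else 0,
    fun w hw => by simp only [dif_pos hw]; exact hW w hw, ?_⟩
  intro w hw b hb
  simp only [dif_pos hw]
  have hd : b - B w + (b - B w) ^ q = 0 := by
    rw [sub_pow_q hF]; linear_combination hb - hB w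
  obtain ⟨h1, e1⟩ := Qel_mul_tv hF h hw (hB w) hd
  obtain ⟨h2, e2⟩ := Qel_mul_tv hF h (hW w hw) (hB' w hw) hd
  have e3 : b + (B' w hw - B w) = B' w hw + (b - B w) := by ring
  refine ⟨hW w hw, by rw [e3]; exact h2, ?_⟩
  rw [piU_Qel_congr hF h hw hb h1 hw rfl (add_sub_cancel _ _).symm, ← e1, map_mul, map_mul,
    hαW w hw, hα.1 _ hd, ← map_mul, e2]
  exact piU_Qel_congr hF h (hW w hw) h2 _ (hW w hw) rfl e3.symm

theorem Orth2.add' {e f w w' : Fin n → F} (hw : Orth2 q e f w) (hw' : Orth2 q e f w') :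
    Orth2 q e f (w + w') := hw.add hw'

omit hF in
theorem herm_decomp (hF : Fintype.card F = q ^ 2) {e f : Fin n → F} (h : HPair q e f)
    (x y : Fin n → F) : herm q x y = herm q x f * herm q y e ^ q + herm q x e * herm q y f ^ q +
      herm q (prj q e f x) (prj q e f y) := by
  simp only [prj, herm_sub_left, herm_sub_right hF, herm_add_left, herm_add_right hF,
    herm_smul_left, herm_smul_right hF, h.ee, h.ff, h.ef, h.fe hF, ← herm_swap hF y e,
    ← herm_swap hF y f]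
  ring

/-- Third normalisation: trivial on the radical modulo the root group. -/
theorem exists_fix_radical (hn : 2 ≤ n) {S : Finset (Fin n)} {e f : Fin n → F} {h : HPair q e f}
    (hS : Frame q S e f) {k₀ : Fin n} (hk₀ : k₀ ∉ S) (hk : 2 ≤ Sᶜ.card ∨ q ≠ 2)
    {α : MulAut (PSU n F q)} (hα : FixPair hF h α) :
    ∃ β : MulAut (PSU n F q), Good β ∧ FixPair hF h (β⁻¹ * α) ∧
      ∀ w (hw : Orth2 q e f w) b (hb : b + b ^ q = -herm q w w),
        ∃ (b' : F) (hb' : b' + b' ^ q = -herm q w w),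
          (β⁻¹ * α) (piU n F q (Qel hF h.ee hw.1 hb)) = piU n F q (Qel hF h.ee hw.1 hb') := by
  classical
  obtain ⟨φ, z, hφ, hφα⟩ := exists_radical_map hF hn hS hα
  obtain ⟨φ', z', hφ', hφα'⟩ := exists_radical_map hF hn hS (hα.inv hF)
  have h0 : Orth2 q e f (0 : Fin n → F) := orth2_zero e f
  have hadd : ∀ v w, Orth2 q e f v → Orth2 q e f w → φ (v + w) = φ v + φ w := by
    intro v w hv hw
    obtain ⟨bv, hbv⟩ := exists_b hF v
    obtain ⟨bw, hbw⟩ := exists_b hF w
    obtain ⟨h1, h1', e1⟩ := hφα v hv bv hbv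
    obtain ⟨h2, h2', e2⟩ := hφα w hw bw hbw
    obtain ⟨h3, h3', e3⟩ := hφα _ (hv.add hw) _ (Qel_add_cond hF hbv hbw)
    have key : piU n F q (Qel hF h.ee hv.1 hbv) * piU n F q (Qel hF h.ee hw.1 hbw) =
        piU n F q (Qel hF h.ee (hv.add hw).1 (Qel_add_cond hF hbv hbw)) := by
      rw [← map_mul, Qel_mul_Qel hF h.ee hv.1 hbv hw.1 hbw (Qel_add_cond hF hbv hbw)]
    rw [← key, map_mul, e1, e2, ← map_mul,
      Qel_mul_Qel hF h.ee h1.1 h1' h2.1 h2' (Qel_add_cond hF h1' h2')] at e3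
    exact (piU_Qel_inj hF hn h (hw := h1.add h2) (hw' := h3) e3).1.symm
  have hinv : ∀ w, Orth2 q e f w → φ' (φ w) = w ∧ φ (φ' w) = w := by
    intro w hw
    obtain ⟨b, hb⟩ := exists_b hF w
    constructor
    · obtain ⟨h1, h1', e1⟩ := hφα w hw b hb
      obtain ⟨h2, h2', e2⟩ := hφα' _ h1 _ h1'
      rw [← e1, MulAut.inv_apply_self] at e2
      exact (piU_Qel_inj hF hn h (hw := hw) (hw' := h2) e2).1.symm
    · obtain ⟨h1, h1', e1⟩ := hφα' w hw b hb
      obtain ⟨h2, h2', e2⟩ := hφα _ h1 _ h1'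
      rw [← e1, MulAut.apply_inv_self] at e2
      exact (piU_Qel_inj hF hn h (hw := hw) (hw' := h2) e2).1.symm
  have hφ0 : φ 0 = 0 := by simpa using hadd 0 0 h0 h0
  have hlin : ∀ t : F, t ^ q = t → ∀ w, Orth2 q e f w → φ (t • w) = t • φ w := by
    intro t ht w hw
    by_cases ht0 : t = 0
    · subst ht0; rw [zero_smul, zero_smul, hφ0]
    obtain ⟨θ, hθ0, hθ⟩ := exists_θ hF
    have hc2 : -t * θ + (-t * θ) ^ q = 0 := by
      rw [mul_pow, neg_pow_q hF, ht]; linear_combination (-t) * hθ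
    obtain ⟨W₁, hW₁, hW₁e, hW₁f, hW₁w⟩ := exists_swap_fixed hF h hα hθ0 hθ
    obtain ⟨W₂, hW₂, hW₂e, hW₂f, hW₂w⟩ :=
      exists_swap_fixed hF h hα (mul_ne_zero (neg_ne_zero.2 ht0) hθ0) hc2
    have hs : IsLevi q e f t (W₂ * W₁) := by
      refine ⟨ht0, ?_, ?_⟩
      · rw [mul_smul, hW₁e, smul_comm, hW₂f, smul_smul]
        congr 1; field_simp
      · rw [mul_smul, hW₁f, smul_comm, hW₂e, smul_smul, ht]
        congr 1; field_simp
    have hsw : ∀ v, Orth2 q e f v → (W₂ * W₁) • v = v := fun v hv => by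
      rw [mul_smul, hW₁w v hv, hW₂w v hv]
    obtain ⟨b, hb⟩ := exists_b hF w
    obtain ⟨h1, h1', e1⟩ := hφα w hw b hb
    obtain ⟨h2, h2', e2⟩ := conj_Qel_levi hF h hs hw hb
    obtain ⟨h3, h3', e3⟩ := conj_Qel_levi hF h hs h1 h1'
    obtain ⟨h4, h4', e4⟩ := hφα _ h2 _ h2'
    rw [← e2, map_mul, map_mul, map_inv, map_mul, map_mul, map_inv, e1, map_mul (piU n F q) W₂ W₁,
      map_mul α, hW₁, hW₂, ← map_mul, ← map_mul, ← map_inv, ← map_mul, e3] at e4
    have := (piU_Qel_inj hF hn h (hw := h3) (hw' := h4) e4).1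
    rw [hsw w hw, hsw _ h1, ht] at this
    exact this.symm
  have hcomm : ∀ v w, Orth2 q e f v → Orth2 q e f w →
      herm q (φ v) (φ w) - herm q (φ w) (φ v) = herm q v w - herm q w v := by
    intro v w hv hw
    obtain ⟨bv, hbv⟩ := exists_b hF v
    obtain ⟨bw, hbw⟩ := exists_b hF w
    obtain ⟨h1, h1', e1⟩ := hφα v hv bv hbv
    obtain ⟨h2, h2', e2⟩ := hφα w hw bw hbw
    obtain ⟨hd, ed⟩ := Qel_commutator hF h hv hw hbv hbw
    obtain ⟨hd', ed'⟩ := Qel_commutator hF h h1 h2 h1' h2'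
    have h3 := congrArg (fun s => α (piU n F q s)) ed
    simp only [map_mul, e1, e2, hα.1 _ hd] at h3
    have h4 := congrArg (piU n F q) ed'
    simp only [map_mul] at h4
    rw [h4, mul_right_inj] at h3
    exact (piU_Qel_inj hF hn h (hw := h0) (hw' := h0) h3).2
  have hbij : ∀ w, Orth2 q e f w → ∃! v, Orth2 q e f v ∧ φ v = w := fun w hw =>
    ⟨φ' w, ⟨hφ' w hw, (hinv w hw).2⟩, fun v hv => by rw [← hv.2, (hinv v hv.1).1]⟩
  obtain ⟨τ, hτfix, hτ, hτφ⟩ := semilinear_of_normalises hF h hS hk hk₀ hφ hbij hadd hlin (by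
    intro l' s' hs'
    obtain ⟨m1, m2⟩ := mem_stab_of_isLevi hF hn hs'
    obtain ⟨s, hsdef⟩ := piU_surjective (α⁻¹ (piU n F q s'))
    obtain ⟨l, hs⟩ := isLevi_of_stab hF hn h
      (hsdef ▸ ((hα.inv hF).stab_iff hF hn _).2 m1)
      (hsdef ▸ ((hα.inv hF).swap hF |>.stab_iff hF hn _).2 m2)
    refine ⟨l, s, hs, fun w hw => ?_⟩
    obtain ⟨b, hb⟩ := exists_b hF w
    obtain ⟨h1, h1', e1⟩ := hφα w hw b hb
    obtain ⟨h2, h2', e2⟩ := conj_Qel_levi hF h hs hw hb
    obtain ⟨h3, h3', e3⟩ := conj_Qel_levi hF h hs' h1 h1'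
    obtain ⟨h4, h4', e4⟩ := hφα _ h2 _ h2'
    rw [← e2, map_mul, map_mul, map_inv, map_mul, map_mul, map_inv, e1, hsdef,
      MulAut.apply_inv_self, ← map_mul, ← map_inv, ← map_mul, e3] at e4
    exact (piU_Qel_inj hF hn h (hw := h3) (hw' := h4) e4).1.symm)
  -- the sign and the scale
  obtain ⟨ε, ρ, hε, hρ, hετ⟩ : ∃ ε ρ : F, ε * ε = 1 ∧ ρ * ρ ^ q = ε ∧
      ((∀ c, τ c = c) ∧ ε = 1 ∨ (∀ c, τ c = c ^ q) ∧ ε = -1) := by
    rcases hτ with hh | hh
    · exact ⟨1, 1, one_mul _, by simp, Or.inl ⟨hh, rfl⟩⟩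
    · obtain ⟨ρ, hρ⟩ := exists_norm_eq hF (t := (-1 : F)) (by rw [neg_pow_q hF, one_pow])
      exact ⟨-1, ρ, by ring, by rw [← pow_succ']; exact hρ, Or.inr ⟨hh, rfl⟩⟩
  have hεq : ε ^ q = ε := by
    rcases hετ with ⟨-, rfl⟩ | ⟨-, rfl⟩
    · exact one_pow _
    · rw [neg_pow_q hF, one_pow]
  have hττ : ∀ c, τ (τ c) = c := fun c => by
    rcases hετ with ⟨hh, -⟩ | ⟨hh, -⟩
    · rw [hh, hh]
    · rw [hh, hh, pow_q_pow_q hF]
  have hform : ∀ v w, Orth2 q e f v → Orth2 q e f w →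
      herm q (φ v) (φ w) = ε * τ (herm q v w) := by
    set D : (Fin n → F) → (Fin n → F) → F := fun v w => herm q (φ v) (φ w) - ε * τ (herm q v w)
    have hsymm : ∀ v w, Orth2 q e f v → Orth2 q e f w → D v w = D w v := by
      intro v w hv hw
      have h1 := hcomm v w hv hw
      have h2 : ε * τ (herm q v w) - ε * τ (herm q w v) = herm q v w - herm q w v := by
        rcases hετ with ⟨hh, rfl⟩ | ⟨hh, rfl⟩
        · rw [hh, hh]; ring
        · rw [hh, hh, ← herm_swap hF v w, ← herm_swap hF w v]; ring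
      simp only [D]; linear_combination h1 - h2
    have hswap : ∀ v w, D w v = D v w ^ q := fun v w => by
      simp only [D, sub_pow_q hF, mul_pow, hεq, ← map_pow, ← herm_swap hF]
    intro v w hv hw
    by_contra hne
    have hD : D v w ≠ 0 := sub_ne_zero.2 hne
    obtain ⟨μ, hμ⟩ := exists_not_fixed hF
    have h1 : D v w ^ q = D v w := by rw [← hswap, ← hsymm v w hv hw]
    have h2 : (τ μ * D v w) ^ q = τ μ * D v w := by
      have e1 : D (μ • v) w = τ μ * D v w := by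
        simp only [D, hτφ μ v hv, herm_smul_left, map_mul]; ring
      rw [← e1, ← hswap, ← hsymm _ w (hv.smul' hF μ) hw]
    rw [mul_pow, h1, ← map_pow] at h2
    exact hμ (τ.injective (mul_right_cancel₀ hD h2))
  -- the semilinear map
  have hρ0 : ρ ≠ 0 := fun hz => by
    rw [hz, zero_mul] at hρ; rw [← hρ, mul_zero] at hε; exact zero_ne_one hε
  set Θ : (Fin n → F) → Fin n → F := fun x =>
    (ρ * τ (herm q x f)) • e + (ε * ρ * τ (herm q x e)) • f + (ε * ρ) • φ (prj q e f x) with hΘ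
  have hΘadd : ∀ x y, Θ (x + y) = Θ x + Θ y := fun x y => by
    simp only [hΘ, herm_add_left, map_add, prj_add hF, hadd _ _ (orth2_prj hF h x) (orth2_prj hF h y)]
    module
  have hΘsmul : ∀ c x, Θ (c • x) = τ c • Θ x := fun c x => by
    simp only [hΘ, herm_smul_left, map_mul, prj_smul, hτφ c _ (orth2_prj hF h x)]
    module
  have hΘform : ∀ x y, herm q (Θ x) (Θ y) = τ (herm q x y) := by
    intro x y
    have hx := orth2_prj hF h x
    have hy := orth2_prj hF h y
    rw [herm_decomp hF h x y, map_add, map_add, map_mul, map_mul, map_pow, map_pow]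
    simp only [hΘ, herm_add_left, herm_add_right hF, herm_smul_left, herm_smul_right hF, h.ee, h.ff,
      h.ef, h.fe hF, (hφ _ hx).1, (hφ _ hx).2, ((hφ _ hy).left hF).1, ((hφ _ hy).left hF).2,
      hform _ _ hx hy, mul_pow, hεq]
    have e1 : ε * (ρ * ρ ^ q) = 1 := by rw [hρ, hε]
    have e2 : ε * ε * (ρ * ρ ^ q) * ε = 1 := by rw [hρ, hε, one_mul, hε]
    linear_combination (τ (herm q x f) * τ (herm q y e) ^ q + τ (herm q x e) * τ (herm q y f) ^ q) * e1
      + (τ (herm q (prj q e f x) (prj q e f y))) * e2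
  have hcomp : ∀ x : Fin n → F, herm q (⇑τ ∘ x) (⇑τ ∘ x) = τ (herm q x x) := fun x => herm_comp τ x x
  let L : (Fin n → F) →ₗ[F] (Fin n → F) :=
    { toFun := fun x => Θ (⇑τ ∘ x)
      map_add' := fun x y => by
        rw [← hΘadd]; congr 1; exact funext fun i => map_add τ _ _
      map_smul' := fun c x => by
        rw [show (⇑τ ∘ (c • x)) = τ c • (⇑τ ∘ x) from funext fun i => map_mul τ _ _, hΘsmul, hττ]
        rfl }
  have hLform : ∀ x y, herm q (L x) (L y) = herm q x y := fun x y => by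
    show herm q (Θ _) (Θ _) = _
    rw [hΘform, herm_comp, hττ]
  have hLinj : Function.Injective L := by
    intro x y hxy
    refine sub_eq_zero.1 (eq_zero_of_herm hF fun v => ?_)
    rw [← hLform, map_sub, hxy, sub_self, herm_zero_left]
  obtain ⟨G, hG⟩ := exists_GU_of_linearEquiv hF (LinearEquiv.ofBijective L
    ⟨hLinj, LinearMap.injective_iff_surjective.1 hLinj⟩) hLform
  have happ : ∀ x, app (G : GL (Fin n) F) τ x = Θ x := fun x => by
    show G • (⇑τ ∘ x) = _
    rw [hG]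
    show Θ (⇑τ ∘ (⇑τ ∘ x)) = Θ x
    congr 1
    exact funext fun i => hττ _
  obtain ⟨β, hβ⟩ := AutPSL.exists_induced (S := SU n F q) rho_injective (normalises_psu G.2 τ)
  have hΘe : Θ e = ρ • e := by
    have : prj q e f e = 0 := by simp [prj, h.ee, h.ef]
    simp [hΘ, h.ee, h.ef, this, hφ0]
  have hΘf : Θ f = (ε * ρ) • f := by
    have : prj q e f f = 0 := by simp [prj, h.ff, h.fe hF]
    simp [hΘ, h.ff, h.fe hF, this, hφ0]
  have hΘw : ∀ w, Orth2 q e f w → Θ w = (ε * ρ) • φ w := fun w hw => by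
    simp [hΘ, hw.1, hw.2, prj_of_orth2 hw]
  have hτc : ∀ c : F, c + c ^ q = 0 → ε * τ c = c := fun c hc => by
    rcases hετ with ⟨hh, rfl⟩ | ⟨hh, rfl⟩
    · rw [hh, one_mul]
    · rw [hh]; linear_combination -hc
  have hfix : FixPair hF h β := by
    refine ⟨fun c hc => ?_, fun c hc => ?_⟩
    · exact IsSemi.map_tv hF G.2 hβ ((happ e).trans hΘe) (by rw [hρ, hτc c hc])
    · refine IsSemi.map_tv hF G.2 hβ ((happ f).trans hΘf) ?_
      rw [mul_pow, hεq, show ε * ρ * (ε * ρ ^ q) = (ε * ε) * (ρ * ρ ^ q) by ring, hε, one_mul, hρ,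
        hτc c hc]
  refine ⟨β, ⟨_, _, G.2, hβ⟩, (hfix.inv hF).mul hF hα, fun w hw b hb => ?_⟩
  obtain ⟨h1, h1', e1⟩ := hφα w hw b hb
  -- the preimage of the image under `β`
  set b₀ := τ (ε * (b + z w)) with hb₀
  have hb₀' : b₀ + b₀ ^ q = -herm q w w := by
    rw [hb₀, ← map_pow, ← map_add, mul_pow, hεq, ← mul_add, h1', hform w w hw hw, mul_neg,
      ← mul_assoc, hε, one_mul, map_neg, hττ]
  refine ⟨b₀, hb₀', ?_⟩
  rw [MulAut.mul_apply, e1, ← MulAut.inv_apply_self _ β (piU n F q (Qel hF h.ee hw.1 hb₀'))]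
  refine congrArg _ ?_
  have hρe : herm q (ρ • e) (ρ • e) = 0 := by
    rw [herm_smul_left, herm_smul_right hF, h.ee, mul_zero, mul_zero]
  have hφe : herm q ((ε * ρ) • φ w) (ρ • e) = 0 := by
    rw [herm_smul_left, herm_smul_right hF, h1.1, mul_zero, mul_zero]
  have hφe' : herm q ((ε * ρ) • φ w) e = 0 := by rw [herm_smul_left, h1.1, mul_zero]
  have hbτ : τ b₀ + τ b₀ ^ q = -herm q ((ε * ρ) • φ w) ((ε * ρ) • φ w) := by
    rw [← map_pow, ← map_add, hb₀', map_neg, ← hΘw w hw, hΘform]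
  rw [IsSemi.map_Qel hF G.2 hβ (u' := ρ • e) (w' := (ε * ρ) • φ w) (b' := τ b₀) (hu' := hρe)
    (hwu' := hφe) (hb' := hbτ) ((happ e).trans hΘe) ((happ w).trans (hΘw w hw)) rfl,
    Qel_rescale hF h.ee hφe' hbτ hρe hφe]
  refine congrArg _ (Qel_congr hF h.ee _ _ _ _ ?_ ?_)
  · rw [smul_smul, show ρ ^ q * (ε * ρ) = ε * (ρ * ρ ^ q) by ring, hρ, hε, one_smul]
  · rw [hb₀, hττ, hρ, ← mul_assoc, hε, one_mul]

/-- An automorphism trivial on the pair and on the radical modulo the root group is trivial. -/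
theorem eq_one_of_fix (hn : 2 ≤ n) {S : Finset (Fin n)} {e f : Fin n → F} {h : HPair q e f}
    (hS : Frame q S e f) (hk : 2 ≤ Sᶜ.card ∨ q ≠ 2)
    {α : MulAut (PSU n F q)} (hα : FixPair hF h α)
    (hU : ∀ w (hw : Orth2 q e f w) b (hb : b + b ^ q = -herm q w w),
        ∃ (b' : F) (hb' : b' + b' ^ q = -herm q w w),
          α (piU n F q (Qel hF h.ee hw.1 hb)) = piU n F q (Qel hF h.ee hw.1 hb')) : α = 1 := by
  classical
  obtain ⟨φ, z, hφ, hφα⟩ := exists_radical_map hF hn hS hα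
  have hφid : ∀ w, Orth2 q e f w → φ w = w := by
    intro w hw
    obtain ⟨b, hb⟩ := exists_b hF w
    obtain ⟨h1, h1', e1⟩ := hφα w hw b hb
    obtain ⟨b', hb', e2⟩ := hU w hw b hb
    rw [e1] at e2
    exact (piU_Qel_inj hF hn h (hw := h1) (hw' := hw) e2).1
  have hUz : ∀ w (hw : Orth2 q e f w) b (hb : b + b ^ q = -herm q w w),
      ∃ hb' : b + z w + (b + z w) ^ q = -herm q w w,
        α (piU n F q (Qel hF h.ee hw.1 hb)) = piU n F q (Qel hF h.ee hw.1 hb') := by
    intro w hw b hb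
    obtain ⟨h1, h1', e1⟩ := hφα w hw b hb
    refine ⟨by rw [hφid w hw] at h1'; exact h1', e1.trans ?_⟩
    exact piU_Qel_congr hF h h1 h1' _ hw (hφid w hw) rfl
  -- the Levi factor is fixed
  have hlevi : ∀ l s, IsLevi q e f l s → α (piU n F q s) = piU n F q s := by
    intro l s hs
    obtain ⟨m1, m2⟩ := mem_stab_of_isLevi hF hn hs
    obtain ⟨s', hs'def⟩ := piU_surjective (α (piU n F q s))
    obtain ⟨l', hs'⟩ := isLevi_of_stab hF hn h (hs'def ▸ (hα.stab_iff hF hn _).2 m1)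
      (hs'def ▸ ((hα.swap hF).stab_iff hF hn _).2 m2)
    have hw' : ∀ w, Orth2 q e f w → l ^ q • (s • w) = l' ^ q • (s' • w) := by
      intro w hw
      obtain ⟨b, hb⟩ := exists_b hF w
      obtain ⟨h1', e1⟩ := hUz w hw b hb
      obtain ⟨h2, h2', e2⟩ := conj_Qel_levi hF h hs hw hb
      obtain ⟨h3, h3', e3⟩ := conj_Qel_levi hF h hs' hw h1'
      obtain ⟨h4', e4⟩ := hUz _ h2 _ h2'
      rw [← e2, map_mul, map_mul, map_inv, map_mul, map_mul, map_inv, e1, ← hs'def, ← map_inv,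
        ← map_mul, ← map_mul, e3] at e4
      exact (piU_Qel_inj hF hn h (hw := h3) (hw' := h2) e4).1.symm
    have hN : l * l ^ q = l' * l' ^ q := by
      obtain ⟨θ, hθ0, hθ⟩ := exists_θ hF
      have h0 : Orth2 q e f (0 : Fin n → F) := orth2_zero e f
      obtain ⟨h2, h2', e2⟩ := conj_Qel_levi hF h hs h0 (tv_cond hθ)
      obtain ⟨h3, h3', e3⟩ := conj_Qel_levi hF h hs' h0 (tv_cond hθ)
      have hz2 : l ^ q • (s • (0 : Fin n → F)) = 0 := by simp
      have hz3 : l' ^ q • (s' • (0 : Fin n → F)) = 0 := by simp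
      have hd : l * l ^ q * θ + (l * l ^ q * θ) ^ q = 0 := by
        rw [h2', hz2, herm_zero_left, neg_zero]
      have e4 := congrArg (fun k => α (piU n F q k)) e2
      rw [piU_Qel_congr hF h h2 h2' (tv_cond hd) h0 hz2 rfl] at e4
      change _ = α (piU n F q (tv hF h.ee hd)) at e4
      rw [map_mul, map_mul, map_inv, map_mul, map_mul, map_inv, hα.1 _ hd] at e4
      change α (piU n F q s) * α (piU n F q (tv hF h.ee hθ)) * (α (piU n F q s))⁻¹ = _ at e4
      rw [hα.1 _ hθ, ← hs'def, ← map_inv, ← map_mul, ← map_mul] at e4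
      have e5 := piU_Qel_inj hF hn h (hw := h3) (hw' := h0) (hb' := tv_cond hd)
        ((congrArg (piU n F q) e3).symm.trans e4)
      exact (mul_right_cancel₀ hθ0 e5.2).symm
    rw [← hs'def]
    obtain ⟨hl, hse, hsf⟩ := hs
    obtain ⟨hl', hs'e, hs'f⟩ := hs'
    refine ((piU_eq_iff hF hn).2 ⟨l' / l, fun x => ?_⟩).symm
    have hr : (l / l') ^ q = l' / l := by
      rw [div_pow]; field_simp; linear_combination hN
    have hwr : ∀ w, Orth2 q e f w → s' • w = (l' / l) • (s • w) := fun w hw => by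
      rw [← hr, div_pow, div_eq_inv_mul, ← smul_smul, hw' w hw,
        inv_smul_smul₀ (pow_ne_zero _ hl')]
    conv_lhs => rw [eq_prj (q := q) e f x]
    conv_rhs => rw [eq_prj (q := q) e f x]
    simp only [smul_add, smul_comm s (herm q x f), smul_comm s (herm q x e),
      smul_comm s' (herm q x f), smul_comm s' (herm q x e), hse, hsf, hs'e, hs'f,
      hwr _ (orth2_prj hF h x), smul_smul]
    have hlq' : (l' ^ q)⁻¹ = l' / l * (l ^ q)⁻¹ := by field_simp; linear_combination hN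
    rw [hlq']
    have : herm q x f * l' = l' / l * (herm q x f * l) := by field_simp
    rw [this]
    generalize s • prj q e f x = v
    module
  -- the shift vanishes
  have hzadd : ∀ v w, Orth2 q e f v → Orth2 q e f w → z (v + w) = z v + z w := by
    intro v w hv hw
    obtain ⟨bv, hbv⟩ := exists_b hF v
    obtain ⟨bw, hbw⟩ := exists_b hF w
    obtain ⟨h1', e1⟩ := hUz v hv bv hbv
    obtain ⟨h2', e2⟩ := hUz w hw bw hbw
    obtain ⟨h3', e3⟩ := hUz _ (hv.add hw) _ (Qel_add_cond hF hbv hbw)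
    have key : piU n F q (Qel hF h.ee hv.1 hbv) * piU n F q (Qel hF h.ee hw.1 hbw) =
        piU n F q (Qel hF h.ee (hv.add hw).1 (Qel_add_cond hF hbv hbw)) := by
      rw [← map_mul, Qel_mul_Qel hF h.ee hv.1 hbv hw.1 hbw (Qel_add_cond hF hbv hbw)]
    rw [← key, map_mul, e1, e2, ← map_mul,
      Qel_mul_Qel hF h.ee hv.1 h1' hw.1 h2' (Qel_add_cond hF h1' h2')] at e3
    have := (piU_Qel_inj hF hn h (hw := hv.add hw) (hw' := hv.add hw) e3).2
    linear_combination -this
  have hzequi : ∀ l s, IsLevi q e f l s → ∀ w, Orth2 q e f w →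
      z (l ^ q • (s • w)) = l * l ^ q * z w := by
    intro l s hs w hw
    obtain ⟨b, hb⟩ := exists_b hF w
    obtain ⟨h1', e1⟩ := hUz w hw b hb
    obtain ⟨h2, h2', e2⟩ := conj_Qel_levi hF h hs hw hb
    obtain ⟨h3, h3', e3⟩ := conj_Qel_levi hF h hs hw h1'
    obtain ⟨h4', e4⟩ := hUz _ h2 _ h2'
    rw [← e2, map_mul, map_mul, map_inv, map_mul, map_mul, map_inv, e1, hlevi l s hs, ← map_inv,
      ← map_mul, ← map_mul, e3] at e4
    have := (piU_Qel_inj hF hn h (hw := h3) (hw' := h2) e4).2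
    linear_combination -this
  have h00 : Orth2 q e f (0 : Fin n → F) := orth2_zero e f
  have hz0 : z 0 = 0 := by
    have := hzadd 0 0 h00 h00
    simpa using this
  have hsingle : ∀ k, k ∉ S → ∀ x : F, z (x • (eI k : Fin n → F)) = 0 := by
    intro k hkS
    have ho : ∀ x : F, Orth2 q e f (x • (eI k : Fin n → F)) := fun x =>
      (hS _).2 (Submodule.smul_mem _ _ (eI_mem_supp hkS))
    suffices ∃ μ : F, μ ≠ 1 ∧ ∀ x : F, z ((μ * x) • (eI k : Fin n → F)) = z (x • eI k) by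
      obtain ⟨μ, hμ, hμz⟩ := this
      intro x
      have h1 := hμz (x / (μ - 1))
      have e1 : (μ * (x / (μ - 1))) • (eI k : Fin n → F) = (x / (μ - 1)) • eI k + x • eI k := by
        rw [← add_smul]; congr 1
        field_simp [sub_ne_zero.2 hμ]
        ring
      rw [e1, hzadd _ _ (ho _) (ho _)] at h1
      exact add_eq_left.1 h1
    by_cases h2 : 2 ≤ Sᶜ.card
    · obtain ⟨m, hm, hmk⟩ := Finset.exists_mem_ne (by omega : 1 < Sᶜ.card) k
      rw [Finset.mem_compl] at hm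
      obtain ⟨a, ha, ha0, ha2⟩ := exists_norm_one hF
      let d : Fin n → F := fun i => if i = k then a else if i = m then a⁻¹ else 1
      obtain ⟨A, hdet, hA⟩ := exists_diagonal hF d fun i => by
        simp only [d]; split_ifs
        · exact ha
        · rw [inv_pow, ← mul_inv, ha, inv_one]
        · simp
      have hfix := hS.diag_fix hF (d := d) fun i hi => by
        simp only [d]
        rw [if_neg (fun hh : i = k => hkS (hh ▸ hi)), if_neg (fun hh : i = m => hm (hh ▸ hi))]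
      have hprod : ∏ i, d i = 1 := by
        rw [← Finset.prod_subset (Finset.subset_univ {k, m}) (fun i _ hi => by
          simp only [Finset.mem_insert, Finset.mem_singleton, not_or] at hi
          simp [d, hi.1, hi.2]), Finset.prod_pair (Ne.symm hmk)]
        simp [d, hmk, ha0]
      obtain ⟨s, hse, hsf, hsw⟩ := exists_levi hF h ((hA e).trans hfix.1) ((hA f).trans hfix.2)
        one_ne_zero (by rw [hdet, hprod]; simp)
      refine ⟨a, fun hh => ha2 (by rw [hh, one_pow]), fun x => ?_⟩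
      have h1 := hzequi 1 s ⟨one_ne_zero, hse, hsf⟩ _ (ho x)
      rw [one_pow, one_smul, one_mul, one_mul, hsw _ (ho x), hA] at h1
      rw [← h1]; congr 1
      funext i
      by_cases hi : i = k
      · subst hi; simp [d, eI]
      · simp [eI, hi]
    · obtain ⟨a, ha, ha0, ha3⟩ := exists_norm_one_cube hF (hk.resolve_left h2)
      obtain ⟨s, hs, hsw⟩ := exists_levi_diag hF h hS hkS ha0
      refine ⟨a ^ q * (a ^ q / a), fun hh => ha3 ?_, fun x => ?_⟩
      · rw [eq_inv_of_mul_eq_one_right ha] at hh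
        field_simp at hh
        linear_combination -hh
      · have h1 := hzequi a s hs _ (ho x)
        rw [hsw _ (ho x), ha, one_mul] at h1
        rw [← h1]; congr 1
        funext i
        by_cases hi : i = k
        · subst hi; simp [eI]; ring
        · simp [eI, hi]
  have hzz : ∀ w, Orth2 q e f w → z w = 0 := by
    intro w hw
    have key : ∀ T : Finset (Fin n), Orth2 q e f (∑ i ∈ T, w i • (eI i : Fin n → F)) ∧
        z (∑ i ∈ T, w i • eI i) = 0 := by
      intro T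
      induction T using Finset.induction_on with
      | empty => simpa using ⟨h00, hz0⟩
      | @insert k T hkT ih =>
        rw [Finset.sum_insert hkT]
        by_cases hkS : k ∈ S
        · rw [(hS w).1 hw k hkS, zero_smul, zero_add]; exact ih
        · have ho : Orth2 q e f (w k • (eI k : Fin n → F)) :=
            (hS _).2 (Submodule.smul_mem _ _ (eI_mem_supp hkS))
          exact ⟨ho.add ih.1, by rw [hzadd _ _ ho ih.1, hsingle k hkS, ih.2, add_zero]⟩
    have := (key Finset.univ).2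
    rwa [← eq_sum_eI w] at this
  -- everything is fixed
  let H : Subgroup (PSU n F q) := α.toMonoidHom.eqLocus (MonoidHom.id _)
  have hUH : ∀ w (hw : Orth2 q e f w) b (hb : b + b ^ q = -herm q w w),
      piU n F q (Qel hF h.ee hw.1 hb) ∈ H := by
    intro w hw b hb
    obtain ⟨h1', e1⟩ := hUz w hw b hb
    exact e1.trans (piU_Qel_congr hF h hw h1' hb hw rfl (by rw [hzz w hw, add_zero]))
  have hUeH : Ugrp hF h ≤ H := by
    rintro _ ⟨w, hw, b, hb, rfl⟩; exact hUH w hw b hb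
  obtain ⟨θ, hθ0, hθ⟩ := exists_θ hF
  obtain ⟨W, hW, hWe, hWf, hWw⟩ := exists_swap_fixed hF h hα hθ0 hθ
  have hWH : piU n F q W ∈ H := hW
  have hUfH : ∀ w (hw : Orth2 q f e w) b (hb : b + b ^ q = -herm q w w),
      piU n F q (Qel hF h.ff hw.1 hb) ∈ H := by
    intro w hw b hb
    have hθe : herm q (θ • e) (θ • e) = 0 := by
      rw [herm_smul_left, herm_smul_right hF, h.ee, mul_zero, mul_zero]
    have hwθ : herm q w (θ • e) = 0 := by rw [herm_smul_right hF, hw.2, mul_zero]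
    have e1 : W * Qel hF h.ff hw.1 hb * W⁻¹ = Qel hF hθe hwθ hb := by
      rw [conj_Qel]
      refine eq_of_smul_eq_SU fun x => ?_
      simp only [Qel_smul, hWf, hWw w hw.swap]
    have e2 : piU n F q (W * Qel hF h.ff hw.1 hb * W⁻¹) ∈ H := by
      rw [e1, Qel_rescale hF h.ee hw.2 hb hθe hwθ]
      exact hUeH (Qel_mem_Ugrp hF h _ _)
    rw [map_mul, map_mul, map_inv] at e2
    have := H.mul_mem (H.mul_mem (H.inv_mem hWH) e2) hWH
    simpa [mul_assoc] using this
  -- reach every isotropic point not orthogonal to `e` by the radical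
  have hreach : ∀ y : Fin n → F, herm q y y = 0 → herm q y e ≠ 0 →
      ∃ u : SU n F q, piU n F q u ∈ H ∧ u • e = e ∧ ∃ a : F, y = a • (u • f) := by
    intro y hyy hb
    set b := herm q y e
    have hv : Orth2 q e f (b⁻¹ • prj q e f y) := (orth2_prj hF h y).smul' hF _
    have hy' : b⁻¹ • y = f + b⁻¹ • prj q e f y + (b⁻¹ * herm q y f) • e := by
      conv_lhs => rw [eq_prj (q := q) e f y]
      rw [smul_add, smul_add, smul_smul, smul_smul, inv_mul_cancel₀ hb, one_smul]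
      abel
    have hcond : b⁻¹ * herm q y f + (b⁻¹ * herm q y f) ^ q =
        -herm q (b⁻¹ • prj q e f y) (b⁻¹ • prj q e f y) := by
      have h1 : herm q (b⁻¹ • y) (b⁻¹ • y) = 0 := by
        rw [herm_smul_left, herm_smul_right hF, hyy, mul_zero, mul_zero]
      rw [hy'] at h1
      simp only [herm_add_left, herm_add_right hF, herm_smul_left b⁻¹, herm_smul_right hF b⁻¹,
        herm_smul_left (b⁻¹ * herm q y f), herm_smul_right hF (b⁻¹ * herm q y f), h.ee, h.ff, h.ef,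
        h.fe hF, (orth2_prj hF h y).1, (orth2_prj hF h y).2, ((orth2_prj hF h y).left hF).1,
        ((orth2_prj hF h y).left hF).2] at h1
      rw [herm_smul_left b⁻¹, herm_smul_right hF b⁻¹]
      linear_combination h1
    refine ⟨Qel hF h.ee hv.1 hcond, hUH _ hv _ hcond, Qel_e hF h hv hcond, b, ?_⟩
    rw [Qel_f hF h hv hcond, ← hy', smul_inv_smul₀ hb]
  have htrans : ∀ y : Fin n → F, y ≠ 0 → herm q y y = 0 →
      ∃ u : SU n F q, piU n F q u ∈ H ∧ ∃ a : F, u • e = a • y := by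
    intro y hy0 hyy
    have case1 : ∀ y : Fin n → F, herm q y y = 0 → herm q y e ≠ 0 →
        ∃ u : SU n F q, piU n F q u ∈ H ∧ ∃ a : F, u • e = a • y := by
      intro y hyy hb
      obtain ⟨u, hu, -, a, ha⟩ := hreach y hyy hb
      refine ⟨u * W, by rw [map_mul]; exact H.mul_mem hu hWH, -θ⁻¹ * a⁻¹, ?_⟩
      have ha0 : a ≠ 0 := fun hz => hb (by rw [ha, hz, zero_smul, herm_zero_left])
      rw [mul_smul, hWe, smul_comm u, ha, smul_smul, inv_mul_cancel_right₀ ha0]
    by_cases hb : herm q y e = 0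
    · set v := prj q e f y with hv
      have hvo : Orth2 q e f v := orth2_prj hF h y
      have hy : y = herm q y f • e + v := by
        conv_lhs => rw [eq_prj (q := q) e f y, hb, zero_smul, add_zero, ← hv]
      by_cases hv0 : v = 0
      · refine ⟨1, by rw [map_one]; exact H.one_mem, (herm q y f)⁻¹, ?_⟩
        have hyf : herm q y f ≠ 0 := fun hz => hy0 (by rw [hy, hz, hv0]; simp)
        have hy' : y = herm q y f • e := by conv_lhs => rw [hy, hv0, add_zero]
        calc (1 : SU n F q) • e = (herm q y f)⁻¹ • (herm q y f • e) := by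
              rw [one_smul, inv_smul_smul₀ hyf]
          _ = (herm q y f)⁻¹ • y := by rw [← hy']
      obtain ⟨k, hk'⟩ := Function.ne_iff.1 hv0
      have hkS : k ∉ S := fun hh => hk' ((hS v).1 hvo k hh)
      have hw : Orth2 q f e (eI k : Fin n → F) := ((hS _).2 (eI_mem_supp hkS)).swap
      obtain ⟨b₀, hb₀⟩ := exists_b hF (eI k : Fin n → F)
      -- one of two choices moves `y` off `e^⊥`
      obtain ⟨b, hb', hne⟩ : ∃ b, ∃ hb' : b + b ^ q = -herm q (eI k : Fin n → F) (eI k),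
          herm q (Qel hF h.ff hw.1 hb' • y) e ≠ 0 := by
        have hcalc : ∀ b (hb' : b + b ^ q = -herm q (eI k : Fin n → F) (eI k)),
            herm q (Qel hF h.ff hw.1 hb' • y) e = b * herm q y f - v k := by
          intro b hb'
          rw [Qel_smul, herm_add_left, herm_add_left, herm_sub_left, herm_smul_left, herm_smul_left,
            herm_smul_left, hb, h.fe hF, hw.2, herm_eI_right hF]
          have : y k = v k := by
            rw [hy]
            simp [(hS.eq_zero_of_notMem hF hkS).1]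
          rw [this]; ring
        by_cases h1 : b₀ * herm q y f - v k = 0
        · have hyf : herm q y f ≠ 0 := fun hz => hk' (by simpa [hz] using h1)
          have hb1 : b₀ + θ + (b₀ + θ) ^ q = -herm q (eI k : Fin n → F) (eI k) := by
            rw [add_pow_q hF]; linear_combination hb₀ + hθ
          exact ⟨_, hb1, by
            rw [hcalc, show (b₀ + θ) * herm q y f - v k = θ * herm q y f by linear_combination h1]
            exact mul_ne_zero hθ0 hyf⟩
        · exact ⟨b₀, hb₀, by rw [hcalc]; exact h1⟩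
      obtain ⟨u, hu, a, ha⟩ := case1 _ ((herm_smul_SU _ y y).trans hyy) hne
      refine ⟨(Qel hF h.ff hw.1 hb')⁻¹ * u, ?_, a, ?_⟩
      · rw [map_mul, map_inv]
        exact H.mul_mem (H.inv_mem (hUfH _ hw b hb')) hu
      · rw [mul_smul, ha, smul_comm, inv_smul_smul]
    · exact case1 y hyy hb
  apply MulEquiv.ext
  intro x
  show x ∈ H
  obtain ⟨g, rfl⟩ := piU_surjective x
  obtain ⟨u, hu, a, ha⟩ := htrans (g • e) ((smul_ne_zero_iff_ne g).2 h.e_ne)
    ((herm_smul_SU g e e).trans h.ee)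
  set p := u⁻¹ * g with hp
  have ha0 : a ≠ 0 := fun hz => by
    rw [hz, zero_smul] at ha
    exact (smul_ne_zero_iff_ne u).2 h.e_ne ha
  have hpe : p • e = a⁻¹ • e := by
    rw [hp, mul_smul, inv_smul_eq_iff, smul_comm, ha, smul_smul, inv_mul_cancel₀ ha0, one_smul]
  obtain ⟨u', hu', hu'e, c, hc⟩ := hreach (p • f) ((herm_smul_SU p f f).trans h.ff) (by
    intro hz
    have := herm_smul_SU p f e
    rw [hpe, herm_smul_right hF, hz, mul_zero, h.fe hF] at this
    exact zero_ne_one this)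
  have hLs : piU n F q (u'⁻¹ * p) ∈ H := by
    obtain ⟨l, hl⟩ := isLevi_of_stab hF hn h (s := u'⁻¹ * p)
      ((mem_stab hF hn).2 ⟨a⁻¹, inv_ne_zero ha0, by
        rw [mul_smul, hpe, inv_smul_eq_iff, smul_comm, hu'e]⟩)
      ((mem_stab hF hn).2 ⟨c, fun hz => by
        rw [hz, zero_smul] at hc
        exact (smul_ne_zero_iff_ne p).2 (h.swap hF).e_ne hc, by
        rw [mul_smul, hc, inv_smul_eq_iff]; exact (smul_comm u' c f).symm⟩)
    exact hlevi l _ hl
  have hfin : piU n F q g = piU n F q u * (piU n F q u' * piU n F q (u'⁻¹ * p)) := by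
    simp [hp, map_mul, map_inv, mul_assoc]
  rw [hfin]
  exact H.mul_mem hu (H.mul_mem hu' hLs)

theorem exists_frame (hn : 3 ≤ n) : ∃ (S : Finset (Fin n)) (e f : Fin n → F),
    HPair q e f ∧ Frame q S e f ∧ S.card = 2 := by
  let i : Fin n := ⟨0, by omega⟩
  let j : Fin n := ⟨1, by omega⟩
  have hij : i ≠ j := by simp [i, j]
  obtain ⟨e, f, heS, hfS, hee, hff, hef⟩ := exists_std_pair hF hij
  refine ⟨{i, j}, e, f, ⟨hee, hff, hef⟩, fun w => ⟨fun hw k hk => ?_, fun hw => ?_⟩,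
    Finset.card_pair hij⟩
  · have := eq_pair_combination hF hij
      (fun l hl => by rwa [Finset.mem_compl, not_not, Finset.mem_insert, Finset.mem_singleton] at hl)
      (by simp) (by simp) heS hfS hee hff hef
      (eI_mem_supp (show k ∉ ({i, j}ᶜ : Finset (Fin n)) from fun hh => Finset.mem_compl.1 hh hk))
    have h1 := congrArg (fun y => herm q w y) this
    simp only [herm_eI_right hF, herm_add_right hF, herm_smul_right hF, hw.1, hw.2, mul_zero,
      add_zero] at h1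
    exact h1
  · constructor <;>
    · rw [herm, hermForm]
      refine Finset.sum_eq_zero fun k _ => ?_
      by_cases hk : k ∈ ({i, j} : Finset (Fin n))
      · rw [hw k hk, zero_mul]
      · first
          | rw [heS k (Finset.mem_compl.2 hk), zero_pow_q hF, mul_zero]
          | rw [hfS k (Finset.mem_compl.2 hk), zero_pow_q hF, mul_zero]

/-- Every automorphism of `PSU_n(q)` is induced by a semilinear isometry. -/
theorem exists_semi (hn : 3 ≤ n) (h32 : ¬ (n = 3 ∧ q = 2)) (α : MulAut (PSU n F q)) :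
    ∃ (g : GL (Fin n) F) (σ : F ≃+* F), g ∈ GU n F q ∧ IsSemi g σ α := by
  obtain ⟨S, e, f, h, hS, hcard⟩ := exists_frame (F := F) hF hn
  have hn2 : 2 ≤ n := by omega
  have hc : Sᶜ.card = n - 2 := by rw [Finset.card_compl, Fintype.card_fin, hcard]
  have hk : 2 ≤ Sᶜ.card ∨ q ≠ 2 := by
    by_cases hq : q = 2
    · left; rw [hc]
      have : n ≠ 3 := fun hh => h32 ⟨hh, hq⟩
      omega
    · exact Or.inr hq
  obtain ⟨k₀, hk₀⟩ : (Sᶜ).Nonempty := Finset.card_pos.1 (by rw [hc]; omega)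
  obtain ⟨β₁, hβ₁, he, hf⟩ := exists_fix_groups hF hn2 h α
  obtain ⟨β₂, hβ₂, h2e, h2f⟩ := exists_fix_pointwise hF hn2 h hS _ he hf
  obtain ⟨β₃, hβ₃, h3, h3U⟩ :=
    exists_fix_radical hF hn2 hS (Finset.mem_compl.1 hk₀) hk (h := h) ⟨h2e, h2f⟩
  have h4 := eq_one_of_fix hF hn2 hS hk h3 h3U
  have g4 : Good (β₂⁻¹ * (β₁⁻¹ * α)) :=
    Good.of_inv_mul hβ₃ (h4 ▸ ⟨1, 1, one_mem _, AutPSL.induced_one' rho_injective⟩)
  exact Good.of_inv_mul hβ₁ (Good.of_inv_mul hβ₂ g4)

end Cfsg.Agent.AutPSU
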