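import Mathlib
import Cfsg.Agent.AutPSU.Main
import Cfsg.Agent.AutPSL.Coset
import Cfsg.Agent.AutPSL.Centralizer

/-!
`PGU_n(q)` inside the automorphism group of `PSU_n(q)`, and elements of prime order in the cosets of
field automorphisms (helper60).
-/

set_option autoImplicit false

namespace Cfsg.Agent.AutPSU

open Matrix Cfsg.Agent.Unitary
open Cfsg.Agent.AutPSL (fieldMap act Induced scalarGL normGL normU)

universe u v

variable {n q : ℕ} {F : Type u} [Field F]

theorem app_scalar (c : Fˣ) (v : Fin n → F) : scalarGL (Fin n) c • v = (c : F) • v := by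
  show ((scalarGL (Fin n) c : GL (Fin n) F) : Matrix (Fin n) (Fin n) F) *ᵥ v = _
  rw [AutPSL.scalarGL_coe, Matrix.smul_mulVec, Matrix.one_mulVec]

theorem IsSemi.pow {g : GL (Fin n) F} (hg : g ∈ GU n F q) {σ : F ≃+* F} {β : MulAut (PSU n F q)}
    [Fintype F] (h : IsSemi g σ β) (k : ℕ) :
    normGL σ g k ∈ GU n F q ∧ IsSemi (normGL σ g k) (σ ^ k) (β ^ k) := by
  induction k with
  | zero =>
    refine ⟨one_mem _, ?_⟩
    rw [pow_zero, pow_zero]; exact AutPSL.induced_one' rho_injective
  | succ k ih =>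
    refine ⟨mul_mem hg (fieldMap_mem_GU ih.1 σ), ?_⟩
    rw [pow_succ', pow_succ']
    exact Induced.comp (normalises_psu ih.1 _) h ih.2

variable [Fintype F] (hF : Fintype.card F = q ^ 2)

include hF

theorem scalarGL_mem_GU (hn : 1 ≤ n) (c : Fˣ) :
    scalarGL (Fin n) c ∈ GU n F q ↔ (c : F) * (c : F) ^ q = 1 := by
  rw [mem_GU_iff]
  constructor
  · intro h
    have := h (eI ⟨0, hn⟩) (eI ⟨0, hn⟩)
    rw [app_scalar, herm_smul_left, herm_smul_right hF, herm_eI_eI hF, if_pos rfl, mul_one] at this
    exact this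
  · intro h x y
    rw [app_scalar, app_scalar, herm_smul_left, herm_smul_right hF, ← mul_assoc, h, one_mul]

theorem scalar_semi {g : GL (Fin n) F} {c : Fˣ} (hg : g = scalarGL (Fin n) c) :
    IsSemi (q := q) g 1 1 := by
  intro s s' hs
  have : s' = s := by
    apply rho_injective
    rw [hs, AutPSL.act_apply, AutPSL.fieldMap_one, hg, AutPSL.scalarGL_mul_comm, mul_inv_cancel_right]
  rw [this]; rfl

/-- The kernel of the semilinear action. -/
theorem IsSemi.eq_one (hn : 3 ≤ n) {g : GL (Fin n) F} (hg : g ∈ GU n F q) {σ : F ≃+* F}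
    (h : IsSemi (q := q) g σ 1) : σ = 1 ∧ ∃ c : Fˣ, g = scalarGL (Fin n) c := by
  classical
  have hn2 : 2 ≤ n := by omega
  obtain ⟨θ, hθ0, hθ⟩ := exists_θ hF
  have hσθ : σ θ + σ θ ^ q = 0 := by rw [← map_pow, ← map_add, hθ, map_zero]
  -- every isotropic line is fixed
  have hline : ∀ u : Fin n → F, herm q u u = 0 → u ≠ 0 →
      ∃ a : F, a ≠ 0 ∧ app g σ u = a • u ∧ a * a ^ q * σ θ = θ := by
    intro u hu hu0
    obtain ⟨v, -, hv, huv⟩ := exists_partner hF (S := ∅) (u := u) (by simp [supp_empty]) hu hu0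
    have hu' : herm q (app g σ u) (app g σ u) = 0 := by rw [herm_app hg, hu, map_zero]
    have hne : app g σ u ≠ 0 := fun hz => by
      have := herm_app (q := q) hg σ u v
      rw [hz, herm_zero_left, huv, map_one] at this
      exact zero_ne_one this
    have h1 := IsSemi.map_tv hF hg h (u := u) (u' := app g σ u) (hu := hu) (hu' := hu') (a := 1)
      (c := θ) (c' := σ θ) (hc := hθ) (hc' := hσθ) (one_smul F _).symm (by simp)
    rw [MulAut.one_apply] at h1
    obtain ⟨a, ha, hau⟩ := point_of_tv hF hn2 (⟨hu, hv, huv⟩ : HPair q u v) hu' hne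
      ((map_ne_zero σ).2 hθ0) hσθ hθ h1.symm
    refine ⟨a, ha, hau, ?_⟩
    have hcc : a * a ^ q * σ θ + (a * a ^ q * σ θ) ^ q = 0 := by
      rw [mul_pow, mul_pow, pow_q_pow_q hF]; linear_combination (a * a ^ q) * hσθ
    have h2 := IsSemi.map_tv hF hg h (u := u) (u' := u) (hu := hu) (hu' := hu) (a := a)
      (c := θ) (hc := hθ) (hc' := hcc) hau rfl
    rw [MulAut.one_apply] at h2
    exact (Qel_inj hF (⟨hu, hv, huv⟩ : HPair q u v) (orth2_zero u v) (orth2_zero u v)
      (piU_Qel_eq hF hn2 hu0 h2.symm)).2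
  obtain ⟨S, e, f, hp, hS, hcard⟩ := exists_frame (F := F) hF hn
  obtain ⟨a, ha0, hae, haθ⟩ := hline e hp.ee hp.e_ne
  obtain ⟨b, hb0, hbf, -⟩ := hline f hp.ff (hp.swap hF).e_ne
  have happ0 : app g σ (0 : Fin n → F) = 0 := by simpa using app_smul g σ 0 (0 : Fin n → F)
  -- the isotropic points off `e^⊥`
  have key : ∀ w, Orth2 q e f w → ∀ s, s + s ^ q = -herm q w w →
      app g σ w = b • w ∧ σ s * a = b * s := by
    intro w hw s hs
    have hy : herm q (f + w + s • e) (f + w + s • e) = 0 := by
      simp only [herm_add_left, herm_add_right hF, herm_smul_left, herm_smul_right hF, hp.ee, hp.ff,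
        hp.ef, hp.fe hF, hw.1, hw.2, (hw.left hF).1, (hw.left hF).2]
      linear_combination hs
    have hy0 : f + w + s • e ≠ 0 := fun hz => by
      have := congrArg (fun x => herm q x e) hz
      simp [herm_add_left, herm_smul_left, hp.ee, hp.fe hF, hw.1] at this
    obtain ⟨k, -, hk, -⟩ := hline _ hy hy0
    rw [app_add, app_add, app_smul, hbf, hae] at hk
    have h1 : herm q (app g σ w) e = 0 := by
      have := herm_app (q := q) hg σ w e
      rw [hae, herm_smul_right hF, hw.1, map_zero] at this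
      exact (mul_eq_zero.1 this).resolve_left (pow_ne_zero _ ha0)
    have h2 : herm q (app g σ w) f = 0 := by
      have := herm_app (q := q) hg σ w f
      rw [hbf, herm_smul_right hF, hw.2, map_zero] at this
      exact (mul_eq_zero.1 this).resolve_left (pow_ne_zero _ hb0)
    have e1 := congrArg (fun x => herm q x e) hk
    simp only [herm_add_left, herm_smul_left, h1, hp.ee, hp.fe hF, hw.1] at e1
    have hkb : k = b := by linear_combination -e1
    have e2 := congrArg (fun x => herm q x f) hk
    simp only [herm_add_left, herm_smul_left, h2, hp.ef, hp.ff, hw.2, hkb] at e2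
    have hs2 : σ s * a = b * s := by linear_combination e2
    refine ⟨?_, hs2⟩
    rw [hkb, smul_add, smul_add, smul_smul, smul_smul, hs2] at hk
    exact add_left_cancel (add_right_cancel hk)
  have hθ' : θ + θ ^ q = -herm q (0 : Fin n → F) 0 := tv_cond hθ
  have hr := (key 0 (orth2_zero e f) θ hθ').2
  obtain ⟨k₀, hk₀⟩ : (Sᶜ).Nonempty := Finset.card_pos.1 (by
    rw [Finset.card_compl, Fintype.card_fin, hcard]; omega)
  have hk₀' : Orth2 q e f (eI k₀ : Fin n → F) :=
    (hS _).2 (eI_mem_supp (Finset.mem_compl.1 hk₀))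
  obtain ⟨s₀, hs₀⟩ := exists_b hF (eI k₀ : Fin n → F)
  have hs₀' : s₀ + s₀ ^ q = -1 := by rw [hs₀, herm_eI_eI hF, if_pos rfl]
  have h3 := (key _ hk₀' s₀ hs₀).2
  set r := b / a
  have hra : ∀ {x : F}, σ x * a = b * x → σ x = r * x := fun {x} hx => by
    simp only [r]; field_simp; linear_combination hx
  have h4 := hra hr
  have h5 := hra h3
  have hr1 : r = 1 := by
    have hrq : r ^ q = r := by
      have e1 := congrArg (· ^ q) h4
      simp only [mul_pow] at e1
      rw [eq_neg_of_add_eq_zero_right hσθ, eq_neg_of_add_eq_zero_right hθ, h4] at e1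
      exact mul_right_cancel₀ hθ0 (by linear_combination e1)
    have e2 : σ s₀ + σ s₀ ^ q = -1 := by
      rw [← map_pow, ← map_add, hs₀', map_neg, map_one]
    rw [h5, mul_pow, hrq] at e2
    linear_combination -e2 + r * hs₀'
  rw [hr1, one_mul] at h4 h5
  have hab : b = a := by
    have : b / a = 1 := hr1
    rw [div_eq_one_iff_eq ha0] at this; exact this
  have haN : a * a ^ q = 1 := by
    rw [h4] at haθ
    exact mul_right_cancel₀ hθ0 (haθ.trans (one_mul θ).symm)
  have hσK : ∀ t : F, t ^ q = t → σ t = t := by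
    intro t ht
    have h6 := hra (key 0 (orth2_zero e f) (t * θ) (tv_cond (fixed_mul_cond ht hθ))).2
    rw [hr1, one_mul, map_mul, h4] at h6
    exact mul_right_cancel₀ hθ0 h6
  have hσ : σ = 1 := RingEquiv.ext fun c => eq_univ_of_closed hF (R := {c | σ c = c}) hσK
    (fun x hx y hy => by show σ (x + y) = x + y; rw [map_add, hx, hy])
    (fun x hx y hy => by show σ (x * y) = x * y; rw [map_mul, hx, hy])
    (μ := s₀ + (if s₀ ^ q = s₀ then θ else 0))
    (by
      show σ _ = _
      rw [map_add, h5]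
      split <;> simp [h4])
    (by
      rw [add_pow_q hF]
      split
      · rename_i hh
        rw [hh, eq_neg_of_add_eq_zero_right hθ]
        intro hbad
        have h2θ : θ ^ q = θ := by
          rw [eq_neg_of_add_eq_zero_right hθ]; exact add_left_cancel hbad
        have h2 : s₀ + s₀ = -1 := by rwa [hh] at hs₀'
        rw [h2θ] at hθ
        exact hθ0 (by
          have : (s₀ + s₀) * θ = s₀ * (θ + θ) := by ring
          rw [h2, hθ, mul_zero] at this
          linear_combination -this)
      · rw [zero_pow_q hF, add_zero, add_zero]; assumption) c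
  subst hσ
  refine ⟨rfl, Units.mk0 a ha0, ?_⟩
  have hgx : ∀ x : Fin n → F, g • x = a • x := fun x => by
    have happ : ∀ y, app g (1 : F ≃+* F) y = g • y := fun y => rfl
    have hw := (key _ (orth2_prj hF hp x) _ (exists_b hF (prj q e f x)).choose_spec).1
    rw [happ] at hw hae hbf
    conv_lhs => rw [eq_prj (q := q) e f x]
    conv_rhs => rw [eq_prj (q := q) e f x]
    rw [smul_add, smul_add, smul_comm g, smul_comm g, hae, hbf, hw, hab]
    module
  refine Units.ext (Matrix.ext_of_mulVec_single fun i => ?_)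
  exact (hgx (Pi.single i 1)).trans (app_scalar (Units.mk0 a ha0) (Pi.single i 1)).symm

end Cfsg.Agent.AutPSU
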