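import Mathlib
import Cfsg.Agent.AutPSU.Coset

/-!
Galois descent for unitary groups along a field automorphism of odd order (helper60).
-/

set_option autoImplicit false

namespace Cfsg.Agent.AutPSU

open Matrix Cfsg.Agent.Unitary
open Cfsg.Agent.AutPSL (fieldMap scalarGL normGL normU twistU)

universe u v

variable {n q : ℕ} {F : Type u} [Field F]

theorem herm_mulVec (M : Matrix (Fin n) (Fin n) F) [Fintype F] (hF : Fintype.card F = q ^ 2) (i j : Fin n) :
    herm q (M *ᵥ eI i) (M *ᵥ eI j) = (Mᵀ * M.map fun x => x ^ q) i j := by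
  rw [Matrix.mul_apply, herm, hermForm]
  refine Finset.sum_congr rfl fun k _ => ?_
  simp [eI, Matrix.mulVec_single]

variable [Fintype F] (hF : Fintype.card F = q ^ 2)

include hF

theorem mem_GU_iff_gram {g : GL (Fin n) F} :
    g ∈ GU n F q ↔
      (g : Matrix (Fin n) (Fin n) F)ᵀ * (g : Matrix (Fin n) (Fin n) F).map (fun x => x ^ q) = 1 := by
  constructor
  · intro h
    ext i j
    rw [← herm_mulVec _ hF, Matrix.one_apply, ← herm_eI_eI hF (F := F) i j]
    exact mem_GU_iff.1 h _ _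
  · intro h
    rw [mem_GU_iff]
    intro x y
    have hlin : ∀ v : Fin n → F, g • v = ∑ i, v i • (g • (eI i : Fin n → F)) := fun v => by
      conv_lhs => rw [eq_sum_eI v, Finset.smul_sum]
      exact Finset.sum_congr rfl fun i _ => smul_comm g (v i) _
    conv_rhs => rw [eq_sum_eI x, herm_sum_left]
    rw [hlin x, herm_sum_left]
    refine Finset.sum_congr rfl fun i _ => ?_
    rw [herm_smul_left, herm_smul_left]
    congr 1
    rw [hlin y, herm_swap hF (∑ j, y j • (g • (eI j : Fin n → F))), herm_sum_left,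
      sum_pow_q hF, herm_eI_left]
    simp_rw [herm_smul_left, mul_pow, ← herm_swap hF]
    have : ∀ j, herm q (g • (eI i : Fin n → F)) (g • eI j) = if i = j then 1 else 0 := fun j => by
      have e := herm_mulVec (g : Matrix (Fin n) (Fin n) F) hF i j
      rw [h, Matrix.one_apply] at e
      exact e
    simp [this]

omit [Fintype F] hF in
/-- The power map of a fixed element of a subfield of square order. -/
theorem pow_eq_pow_base {y : F} {q₀ r : ℕ} (hy : y ^ q₀ ^ 2 = y) (hr : Odd r) (hq : q = q₀ ^ r) :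
    y ^ q = y ^ q₀ := by
  obtain ⟨k, rfl⟩ := hr
  subst hq
  induction k with
  | zero => simp
  | succ k ih =>
    rw [show 2 * (k + 1) + 1 = (2 * k + 1) + 2 by ring, pow_add, mul_comm, pow_mul, hy, ih]

variable {σ : F ≃+* F} {F₀ : Type v} [Field F₀] [Fintype F₀] {q₀ r : ℕ}
  (i : F₀ →+* F) (hi : ∀ x : F, σ x = x ↔ ∃ y, i y = x) (hF₀ : Fintype.card F₀ = q₀ ^ 2)
  (hr : Odd r) (hq : q = q₀ ^ r)

include hF₀ hr hq

theorem map_pow_q (y : F₀) : i y ^ q = i (y ^ q₀) := by
  rw [map_pow]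
  refine pow_eq_pow_base ?_ hr hq
  rw [← map_pow, ← hF₀, FiniteField.pow_card]

theorem map_gram (g : Matrix (Fin n) (Fin n) F₀) :
    (g.map i)ᵀ * (g.map i).map (fun x => x ^ q) = (gᵀ * g.map fun x => x ^ q₀).map i := by
  have e1 : (g.map i).map (fun x => x ^ q) = (g.map fun x => x ^ q₀).map i := by
    ext a b; exact map_pow_q hF i hF₀ hr hq (g a b)
  rw [e1, Matrix.map_mul]
  rfl

theorem map_mem_GU_iff (g : GL (Fin n) F₀) :
    Matrix.GeneralLinearGroup.map i g ∈ GU n F q ↔ g ∈ GU n F₀ q₀ := by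
  rw [mem_GU_iff_gram hF, mem_GU_iff_gram hF₀]
  show ((g : Matrix (Fin n) (Fin n) F₀).map i)ᵀ * _ = 1 ↔ _
  rw [show (((Matrix.GeneralLinearGroup.map i g : GL (Fin n) F)) : Matrix (Fin n) (Fin n) F) =
    (g : Matrix (Fin n) (Fin n) F₀).map i from rfl, map_gram hF i hF₀ hr hq]
  constructor
  · intro h
    ext a b
    apply i.injective
    have := congrFun (congrFun h a) b
    rw [Matrix.map_apply] at this
    rw [this, Matrix.one_apply, Matrix.one_apply]
    split <;> simp
  · intro h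
    rw [h, Matrix.map_one _ (map_zero i) (map_one i)]

include hi

/-- Hilbert 90 for `GU_n`. -/
theorem hilbert90_GU {g : GL (Fin n) F} (hg : g ∈ GU n F q) (hN : normGL σ g (orderOf σ) = 1) :
    ∃ h : GL (Fin n) F, h ∈ GU n F q ∧ g = h * (fieldMap σ h)⁻¹ := by
  classical
  obtain ⟨x, hx⟩ := AutPSL.hilbert90 σ g hN
  have hgx : g * fieldMap σ x = x := by rw [hx, inv_mul_cancel_right]
  -- the Gram matrix of `x` is fixed by `σ`
  set H : Matrix (Fin n) (Fin n) F :=
    (x : Matrix (Fin n) (Fin n) F)ᵀ * (x : Matrix (Fin n) (Fin n) F).map (fun t => t ^ q) with hH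
  have hfix : ∀ a b, σ (H a b) = H a b := by
    intro a b
    rw [hH, ← herm_mulVec _ hF, ← herm_comp]
    have key : ∀ c, ⇑σ ∘ ((x : Matrix (Fin n) (Fin n) F) *ᵥ eI c) =
        (fieldMap σ x : GL (Fin n) F) • (eI c : Fin n → F) := fun c => by
      funext k
      show σ _ = ((x : Matrix (Fin n) (Fin n) F).map σ *ᵥ eI c) k
      simp [eI, Matrix.mulVec_single]
    rw [key, key, ← mem_GU_iff.1 hg, ← mul_smul, ← mul_smul, hgx]
    rfl
  choose H₀ hH₀ using fun a b => (hi (H a b)).1 (hfix a b)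
  have hHmap : (Matrix.of H₀).map i = H := Matrix.ext hH₀
  have hdet : (Matrix.of H₀).det ≠ 0 := by
    intro hz
    have h2 : H.det = 0 := by
      rw [← hHmap, show (Matrix.of H₀).map i = i.mapMatrix (Matrix.of H₀) from rfl,
        ← RingHom.map_det, hz, map_zero]
    rw [hH, Matrix.det_mul, Matrix.det_transpose,
      show (x : Matrix (Fin n) (Fin n) F).map (fun t => t ^ q) =
        (conjHom hF).mapMatrix (x : Matrix (Fin n) (Fin n) F) from rfl, ← RingHom.map_det] at h2
    rcases mul_eq_zero.1 h2 with h3 | h3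
    · exact Matrix.GeneralLinearGroup.det_ne_zero x h3
    · exact Matrix.GeneralLinearGroup.det_ne_zero x ((conjHom hF).injective (h3.trans (map_zero _).symm))
  let H' : GL (Fin n) F₀ := Matrix.GeneralLinearGroup.mkOfDetNeZero (Matrix.of H₀) hdet
  let τ : F₀ ≃+* F₀ := RingEquiv.ofBijective (conjHom hF₀)
    (Finite.injective_iff_bijective.mp (conjHom hF₀).injective)
  have hτapp : ∀ y, τ y = y ^ q₀ := fun y => rfl
  have hτ : orderOf τ = 2 := by
    refine orderOf_eq_prime (RingEquiv.ext fun y => ?_) fun h1 => ?_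
    · rw [sq]; show τ (τ y) = y; rw [hτapp, hτapp, pow_q_pow_q hF₀]
    · exact conjHom_ne_id hF₀ (RingHom.ext fun y => DFunLike.congr_fun h1 y)
  have hsymm : ((H' : Matrix (Fin n) (Fin n) F₀).map τ)ᵀ = (H' : Matrix (Fin n) (Fin n) F₀) := by
    ext a b
    apply i.injective
    show i (H₀ b a ^ q₀) = i (H₀ a b)
    rw [← map_pow_q hF i hF₀ hr hq, hH₀, hH₀, hH, ← herm_mulVec _ hF, ← herm_mulVec _ hF,
      ← herm_swap hF]
  obtain ⟨k, hk⟩ := AutPSL.hermitian_decomp τ hτ H' hsymm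
  set m : GL (Fin n) F₀ := AutPSL.itGL k
  set m' : GL (Fin n) F := Matrix.GeneralLinearGroup.map i m
  have hm' : fieldMap σ m' = m' := by
    apply Units.ext
    ext a b
    exact (hi _).2 ⟨_, rfl⟩
  refine ⟨x * m', (mem_GU_iff_gram hF).2 ?_, ?_⟩
  · have hmk : (m : Matrix (Fin n) (Fin n) F₀)ᵀ * (k : Matrix (Fin n) (Fin n) F₀) = 1 := by
      rw [show (m : Matrix (Fin n) (Fin n) F₀) = _ from AutPSL.itGL_coe k, Matrix.transpose_transpose,
        ← Units.val_mul, inv_mul_cancel, Units.val_one]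
    have hmk' : ((k : Matrix (Fin n) (Fin n) F₀).map τ)ᵀ * (m : Matrix (Fin n) (Fin n) F₀).map τ = 1 := by
      rw [← Matrix.transpose_map, ← Matrix.map_mul,
        show (k : Matrix (Fin n) (Fin n) F₀)ᵀ * (m : Matrix (Fin n) (Fin n) F₀) =
          ((m : Matrix (Fin n) (Fin n) F₀)ᵀ * (k : Matrix (Fin n) (Fin n) F₀))ᵀ by
          rw [Matrix.transpose_mul, Matrix.transpose_transpose],
        hmk, Matrix.transpose_one, Matrix.map_one _ (map_zero τ) (map_one τ)]
    rw [Units.val_mul, Matrix.transpose_mul,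
      show ((x : Matrix (Fin n) (Fin n) F) * (m' : Matrix (Fin n) (Fin n) F)).map (fun t => t ^ q) =
        (x : Matrix (Fin n) (Fin n) F).map (fun t => t ^ q) *
          (m' : Matrix (Fin n) (Fin n) F).map (fun t => t ^ q) from
        Matrix.map_mul (f := conjHom hF),
      Matrix.mul_assoc, ← Matrix.mul_assoc (x : Matrix (Fin n) (Fin n) F)ᵀ, ← hH, ← hHmap]
    have e1 : (m' : Matrix (Fin n) (Fin n) F).map (fun t => t ^ q) =
        ((m : Matrix (Fin n) (Fin n) F₀).map τ).map i := by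
      ext a b
      exact map_pow_q hF i hF₀ hr hq _
    rw [e1, show ((m' : GL (Fin n) F) : Matrix (Fin n) (Fin n) F)ᵀ =
      ((m : Matrix (Fin n) (Fin n) F₀)ᵀ).map i from rfl, ← Matrix.map_mul, ← Matrix.map_mul,
      show Matrix.of H₀ = (H' : Matrix (Fin n) (Fin n) F₀) from rfl, hk, Matrix.mul_assoc, hmk',
      Matrix.mul_one, hmk, Matrix.map_one _ (map_zero i) (map_one i)]
  · rw [map_mul, hm', _root_.mul_inv_rev, mul_assoc, mul_inv_cancel_left]
    exact hx

/-- The norm is onto from the elements of norm one. -/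
theorem exists_norm_one_preimage {u : Fˣ} (hu : σ (u : F) = u) (hu1 : (u : F) * (u : F) ^ q = 1) :
    ∃ d : Fˣ, normU σ (orderOf σ) d = u ∧ (d : F) * (d : F) ^ q = 1 := by
  obtain ⟨y, hy⟩ := (hi _).1 hu
  have hy0 : y ≠ 0 := fun hz => by simp [hz] at hy; exact u.ne_zero hy.symm
  have hy1 : Units.mk0 y hy0 ^ (q₀ + 1) = 1 := by
    apply Units.ext
    apply i.injective
    simp only [Units.val_pow_eq_pow_val, Units.val_mk0, Units.val_one, map_one]
    rw [pow_succ', map_mul, ← map_pow_q hF i hF₀ hr hq, hy, hu1]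
  obtain ⟨z, hz⟩ := exists_pow_sub_one hF₀ hy1
  have hzy : y = (z : F₀) ^ q₀ / z := by
    rw [← pow_q_sub_one hF₀ z.ne_zero]; simpa using (congrArg Units.val hz).symm
  obtain ⟨d', hd'⟩ := AutPSL.exists_norm_eq σ (Units.map (i : F₀ →* F) z) ((hi _).2 ⟨_, rfl⟩)
  let c : Fˣ →* Fˣ := Units.map (conjHom hF : F →* F)
  have hc : ∀ a : Fˣ, (c a : F) = (a : F) ^ q := fun a => rfl
  refine ⟨c d' / d', ?_, ?_⟩
  · have hcomm : ∀ a, normU σ (orderOf σ) (c a) = c (normU σ (orderOf σ) a) := fun a => by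
      apply Units.ext
      show ((∏ j ∈ Finset.range (orderOf σ), Units.map ((σ ^ j).toRingHom : F →* F) (c a) : Fˣ) : F) =
        ((∏ j ∈ Finset.range (orderOf σ), Units.map ((σ ^ j).toRingHom : F →* F) a : Fˣ) : F) ^ q
      rw [Units.coe_prod, Units.coe_prod, ← Finset.prod_pow]
      refine Finset.prod_congr rfl fun j _ => ?_
      exact map_pow (σ ^ j) _ q
    rw [map_div, hcomm, hd']
    apply Units.ext
    rw [Units.val_div_eq_div_val, hc, ← hy, hzy, map_div₀]
    show i (z : F₀) ^ q / i (z : F₀) = _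
    rw [map_pow_q hF i hF₀ hr hq]
  · rw [Units.val_div_eq_div_val, hc, div_pow, pow_q_pow_q hF]
    have := d'.ne_zero
    field_simp

/-- Scalars of norm one: `c = d / σ d` with `d` of norm one. -/
theorem exists_twist_one {c : Fˣ} (hN : normU σ (orderOf σ) c = 1)
    (hc1 : (c : F) * (c : F) ^ q = 1) : ∃ d : Fˣ, c = twistU σ d ∧ (d : F) * (d : F) ^ q = 1 := by
  obtain ⟨d, hd⟩ := AutPSL.exists_twist σ c hN
  have hcd : (c : F) * σ (d : F) = d := by
    rw [hd]
    show ((d / Units.map (σ.toRingHom : F →* F) d : Fˣ) : F) * σ (d : F) = d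
    rw [Units.val_div_eq_div_val]
    exact div_mul_cancel₀ _ ((map_ne_zero σ).2 d.ne_zero)
  set t := (d : F) * (d : F) ^ q
  have ht : σ t = t := by
    have : t = ((c : F) * (c : F) ^ q) * σ t := by
      simp only [t, map_mul, map_pow]
      conv_lhs => rw [← hcd, mul_pow]
      ring
    rw [hc1, one_mul] at this
    exact this.symm
  obtain ⟨y, hy⟩ := (hi _).1 ht
  have hy0 : y ≠ 0 := fun hz => by
    rw [hz, map_zero] at hy; exact mul_ne_zero d.ne_zero (pow_ne_zero _ d.ne_zero) hy.symm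
  have hyfix : (y⁻¹) ^ q₀ = y⁻¹ := by
    apply i.injective
    rw [← map_pow_q hF i hF₀ hr hq, map_inv₀, inv_pow, hy]
    simp only [t, mul_pow, pow_q_pow_q hF, mul_comm]
  obtain ⟨w, hw⟩ := Unitary.exists_norm_eq hF₀ hyfix
  have hw0 : i w ≠ 0 := fun hz => by
    rw [map_eq_zero] at hz; rw [hz, zero_pow (by omega)] at hw; exact inv_ne_zero hy0 hw.symm
  refine ⟨d * Units.mk0 _ hw0, ?_, ?_⟩
  · rw [map_mul, ← hd, show twistU σ (Units.mk0 _ hw0) = 1 from
      (AutPSL.mem_ker_twistU σ (Units.mk0 _ hw0)).2 ((hi _).2 ⟨w, rfl⟩), mul_one]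
  · have e : i w * i w ^ q = t⁻¹ := by
      rw [map_pow_q hF i hF₀ hr hq, ← map_mul, ← pow_succ', hw, map_inv₀, hy]
    have ht0 : t ≠ 0 := mul_ne_zero d.ne_zero (pow_ne_zero _ d.ne_zero)
    rw [Units.val_mul, Units.val_mk0, mul_pow, mul_mul_mul_comm, e]
    exact mul_inv_cancel₀ ht0

end Cfsg.Agent.AutPSU
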