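import Mathlib
import Cfsg.Agent.AutPSU.Descent

/-!
Field automorphisms of `PSU_n(q)`: centralisers in `PGU_n(q)`, conjugacy and splitting (helper60).
-/

set_option autoImplicit false

namespace Cfsg.Agent.AutPSU

open Matrix Cfsg.Agent.Unitary
open Cfsg.Agent.AutPSL (fieldMap Induced scalarGL normGL normU twistU mem_centralizer_single)

universe u v

variable {n : ℕ} {F : Type u} [Field F] [Fintype F] {q : ℕ}

/-- `splitClassCount_eq` for a determinant read modulo a subgroup. -/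
theorem splitClassCount_mod {G : Type u} [Group G] {X : Type v} [Group X] {A : Type u} [CommGroup A]
    (P : G →* X) (dA : G →* A) (N : Subgroup A) (hd : Function.Surjective dA)
    (hker : P.ker ≤ N.comap dA) (x : X) :
    splitClassCount P.range ((N.comap dA).map P) x =
      (((Subgroup.centralizer ({x} : Set X)).comap P).map dA ⊔ N).index := by
  have hk : ((QuotientGroup.mk' N).comp dA).ker = N.comap dA := by
    rw [← MonoidHom.comap_ker, QuotientGroup.ker_mk']
  have h := AutPSL.splitClassCount_eq P ((QuotientGroup.mk' N).comp dA)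
    ((QuotientGroup.mk'_surjective N).comp hd) (hk.symm ▸ hker) x
  rw [hk] at h
  rw [h, ← Subgroup.map_map, Subgroup.index_map,
    MonoidHom.range_eq_top_of_surjective _ (QuotientGroup.mk'_surjective _), Subgroup.index_top,
    mul_one, QuotientGroup.ker_mk']

variable (n F q) in
/-- Conjugation by `GU_n` on `PSU_n`. -/
noncomputable def pgu : ↥(GU n F q) →* MulAut (PSU n F q) where
  toFun g := Classical.choose (AutPSL.exists_induced (S := SU n F q) rho_injective (normalises_psu g.2 1))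
  map_one' := Induced.ext (normalises_psu (one_mem _) 1)
    (Classical.choose_spec (AutPSL.exists_induced (S := SU n F q) rho_injective
      (normalises_psu (one_mem (GU n F q)) 1)))
    (AutPSL.induced_one' rho_injective)
  map_mul' g h := by
    have hc := Induced.comp (normalises_psu h.2 1)
      (Classical.choose_spec (AutPSL.exists_induced (S := SU n F q) rho_injective (normalises_psu g.2 1)))
      (Classical.choose_spec (AutPSL.exists_induced (S := SU n F q) rho_injective (normalises_psu h.2 1)))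
    rw [one_mul, AutPSL.fieldMap_one] at hc
    exact Induced.ext (normalises_psu (mul_mem g.2 h.2) 1) (Classical.choose_spec (AutPSL.exists_induced
      (S := SU n F q) rho_injective (normalises_psu (g * h).2 1))) hc

theorem isSemi_pgu (g : GU n F q) : IsSemi (g : GL (Fin n) F) 1 (pgu n F q g) :=
  Classical.choose_spec (AutPSL.exists_induced (S := SU n F q) rho_injective (normalises_psu g.2 1))

theorem eq_pgu {g : GL (Fin n) F} (hg : g ∈ GU n F q) {β : MulAut (PSU n F q)}
    (h : IsSemi g 1 β) : β = pgu n F q ⟨g, hg⟩ :=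
  Induced.ext (normalises_psu hg 1) h (isSemi_pgu ⟨g, hg⟩)

attribute [irreducible] pgu

theorem mem_inndiag_iff (β : MulAut (PSU n F q)) :
    β ∈ inndiagPSU n F q ↔ ∃ g, pgu n F q g = β := by
  constructor
  · intro h
    have : inndiagPSU n F q ≤ (pgu n F q).range := by
      rw [inndiagPSU, autSubgroupOf, Subgroup.closure_le]
      intro γ hγ
      obtain ⟨g, hg, hγ'⟩ := (isInnerDiagonal_iff γ).1 hγ
      exact ⟨⟨g, hg⟩, (eq_pgu hg hγ').symm⟩
    exact this h
  · rintro ⟨g, rfl⟩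
    exact Subgroup.subset_closure ((isInnerDiagonal_iff _).2 ⟨g, g.2, isSemi_pgu g⟩)

theorem pgu_range : (pgu n F q).range = inndiagPSU n F q :=
  Subgroup.ext fun β => (mem_inndiag_iff β).symm

theorem pgu_rho (s : SU n F q) : pgu n F q (toGU s) = MulAut.conj (piU n F q s) := by
  refine Induced.ext (normalises_psu (toGU s).2 1) (isSemi_pgu (toGU s)) fun t t' ht => ?_
  have : t' = s * t * s⁻¹ := by
    apply rho_injective
    rw [ht, AutPSL.act_apply, AutPSL.fieldMap_one, map_mul, map_mul, map_inv]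
    rfl
  rw [this]
  rfl

variable (hF : Fintype.card F = q ^ 2)

include hF

theorem pgu_eq_one_iff (hn : 3 ≤ n) {g : GU n F q} :
    pgu n F q g = 1 ↔ ∃ c : Fˣ, (g : GL (Fin n) F) = scalarGL (Fin n) c := by
  constructor
  · intro h
    have h2 := isSemi_pgu g
    rw [h] at h2
    exact (IsSemi.eq_one hF hn g.2 h2).2
  · rintro ⟨c, hc⟩
    exact (eq_pgu g.2 (scalar_semi hF hc)).symm

theorem conj_inndiag (hn : 3 ≤ n) (h32 : ¬ (n = 3 ∧ q = 2)) (α : MulAut (PSU n F q))
    {d : MulAut (PSU n F q)} (hd : d ∈ inndiagPSU n F q) : α * d * α⁻¹ ∈ inndiagPSU n F q := by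
  obtain ⟨k, rfl⟩ := (mem_inndiag_iff d).1 hd
  obtain ⟨g, σ, hg, hα⟩ := exists_semi hF hn h32 α
  have hN := normalises_psu (q := q) hg σ
  have hi := Induced.inverse rho_injective hN hα
  have hgi : fieldMap σ⁻¹ g⁻¹ ∈ GU n F q := fieldMap_mem_GU (inv_mem hg) _
  have hm : g * fieldMap σ (k : GL (Fin n) F) ∈ GU n F q := mul_mem hg (fieldMap_mem_GU k.2 σ)
  have h1 := Induced.comp (normalises_psu hgi σ⁻¹)
    (Induced.comp (normalises_psu k.2 1) hα (isSemi_pgu k)) hi
  rw [mul_one, mul_inv_cancel] at h1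
  exact (mem_inndiag_iff _).2 ⟨_, (eq_pgu (mul_mem hm (fieldMap_mem_GU hgi σ)) h1).symm⟩

theorem orderOf_std (hn : 3 ≤ n) {σ : F ≃+* F} {φ : MulAut (PSU n F q)} (h : IsSemi 1 σ φ) :
    orderOf φ = orderOf σ := by
  have hN : ∀ k, normGL σ (1 : GL (Fin n) F) k = 1 := fun k => AutPSL.normGL_one σ k
  apply Nat.dvd_antisymm <;> apply orderOf_dvd_of_pow_eq_one
  · have h1 := (IsSemi.pow (one_mem _) h (orderOf σ)).2
    rw [pow_orderOf_eq_one, hN] at h1
    exact Induced.ext AutPSL.normalises_one h1 (AutPSL.induced_one' rho_injective)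
  · have h1 := (IsSemi.pow (one_mem _) h (orderOf φ)).2
    rw [pow_orderOf_eq_one, hN] at h1
    exact (IsSemi.eq_one hF hn (one_mem _) h1).1

theorem semi_comm_pgu {σ : F ≃+* F} {φ : MulAut (PSU n F q)} (hφ : IsSemi 1 σ φ) (g : GU n F q) :
    φ * pgu n F q g = pgu n F q ⟨fieldMap σ (g : GL (Fin n) F), fieldMap_mem_GU g.2 σ⟩ * φ := by
  generalize hP : pgu n F q = P
  have hP' : ∀ g : GU n F q, IsSemi (g : GL (Fin n) F) 1 (P g) := fun g => hP ▸ isSemi_pgu g
  have hg' : fieldMap σ (g : GL (Fin n) F) ∈ GU n F q := fieldMap_mem_GU g.2 σ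
  have h1 := Induced.comp (normalises_psu g.2 1) hφ (hP' g)
  rw [one_mul, mul_one] at h1
  have h2 := Induced.comp (normalises_psu (one_mem (GU n F q)) σ) (hP' ⟨_, hg'⟩) hφ
  rw [map_one, mul_one, one_mul] at h2
  exact Induced.ext (normalises_psu hg' σ) h1 h2

variable {σ : F ≃+* F} {F₀ : Type v} [Field F₀] [Fintype F₀] {q₀ r : ℕ}
  (i : F₀ →+* F) (hi : ∀ x : F, σ x = x ↔ ∃ y, i y = x) (hF₀ : Fintype.card F₀ = q₀ ^ 2)
  (hr : Odd r) (hq : q = q₀ ^ r) (hσr : orderOf σ = r)

include hi hF₀ hr hq hσr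

theorem comm_field_iff (hn : 3 ≤ n) {φ : MulAut (PSU n F q)} (hφ : IsSemi 1 σ φ) (g : GU n F q) :
    pgu n F q g ∈ Subgroup.centralizer ({φ} : Set _) ↔
      ∃ (g₀ : GU n F q) (d : Fˣ), fieldMap σ (g₀ : GL (Fin n) F) = g₀ ∧
        (d : F) * (d : F) ^ q = 1 ∧ (g : GL (Fin n) F) = (g₀ : GL (Fin n) F) * scalarGL _ d := by
  haveI : Nonempty (Fin n) := ⟨⟨0, by omega⟩⟩
  rw [mem_centralizer_single, semi_comm_pgu hF hφ, mul_left_inj]
  constructor
  · intro hc
    have h1 : pgu n F q (g⁻¹ * ⟨fieldMap σ g, fieldMap_mem_GU g.2 σ⟩) = 1 := by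
      rw [map_mul, map_inv, hc, inv_mul_cancel]
    obtain ⟨c, hcs⟩ := (pgu_eq_one_iff hF hn).1 h1
    let g' : GU n F q := ⟨fieldMap σ (g : GL (Fin n) F), fieldMap_mem_GU g.2 σ⟩
    have hc1 : (c : F) * (c : F) ^ q = 1 :=
      (scalarGL_mem_GU hF (by omega) c).1 (hcs ▸ (g⁻¹ * g').2)
    have hσg : fieldMap σ (g : GL (Fin n) F) = (g : GL (Fin n) F) * scalarGL _ c := by
      rw [← hcs]
      exact (mul_inv_cancel_left _ _).symm
    have hit : ∀ k : ℕ, fieldMap (σ ^ k) (g : GL (Fin n) F) = (g : GL (Fin n) F) * scalarGL _ (normU σ k c) := by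
      intro k
      induction k with
      | zero => rw [pow_zero, AutPSL.fieldMap_one, show normU σ 0 c = 1 from rfl]; simp
      | succ k ih =>
        rw [pow_succ, AutPSL.fieldMap_mul, hσg, map_mul, ih, AutPSL.fieldMap_scalarGL, mul_assoc,
          ← map_mul]
        congr 2
        exact (Finset.prod_range_succ (fun j => Units.map ((σ ^ j).toRingHom : F →* F) c) k).symm
    have hN : normU σ (orderOf σ) c = 1 := by
      have h2 := hit (orderOf σ)
      rw [pow_orderOf_eq_one, AutPSL.fieldMap_one, eq_comm, mul_eq_left] at h2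
      exact AutPSL.scalarGL_injective (h2.trans (map_one _).symm)
    obtain ⟨d, hd, hd1⟩ := exists_twist_one hF i hi hF₀ hr hq hN hc1
    refine ⟨g * ⟨scalarGL _ d, (scalarGL_mem_GU hF (by omega) d).2 hd1⟩, d⁻¹, ?_, ?_, ?_⟩
    · rw [Subgroup.coe_mul, map_mul, hσg, AutPSL.fieldMap_scalarGL, mul_assoc, ← map_mul, hd]
      congr 2
      exact div_mul_cancel d _
    · rw [Units.val_inv_eq_inv_val, inv_pow, ← mul_inv, hd1, inv_one]
    · rw [Subgroup.coe_mul, mul_assoc, ← map_mul, mul_inv_cancel]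
      exact ((congrArg ((g : GL (Fin n) F) * ·) (map_one _)).trans (mul_one _)).symm
  · rintro ⟨g₀, d, hg₀, hd, hg⟩
    refine inv_mul_eq_one.1 ?_ |>.symm
    rw [← map_inv, ← map_mul, pgu_eq_one_iff hF hn]
    refine ⟨Units.map (σ.toRingHom : F →* F) d / d, ?_⟩
    show ((g : GL (Fin n) F))⁻¹ * fieldMap σ (g : GL (Fin n) F) = _
    rw [inv_mul_eq_iff_eq_mul, hg, map_mul, hg₀,
      AutPSL.fieldMap_scalarGL, mul_assoc, ← map_mul]
    congr 2
    exact (mul_div_cancel d _).symm

theorem exists_centralizer_equiv (hn : 3 ≤ n) {φ : MulAut (PSU n F q)} (hφ : IsSemi 1 σ φ) :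
    Nonempty (↥(inndiagPSU n F q ⊓ Subgroup.centralizer {φ}) ≃* PGU n F₀ q₀) := by
  classical
  haveI : Nonempty (Fin n) := ⟨⟨0, by omega⟩⟩
  have hfix : ∀ g : GL (Fin n) F₀,
      fieldMap σ (Matrix.GeneralLinearGroup.map i g) = Matrix.GeneralLinearGroup.map i g := fun g => by
    apply Units.ext
    ext a b
    exact (hi _).mpr ⟨_, rfl⟩
  let Ψ : ↥(GU n F₀ q₀) →* ↥(GU n F q) :=
    ((Matrix.GeneralLinearGroup.map i).comp (GU n F₀ q₀).subtype).codRestrict _
      fun g => (map_mem_GU_iff hF i hF₀ hr hq _).2 g.2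
  let Φ : ↥(GU n F₀ q₀) →* ↥(inndiagPSU n F q ⊓ Subgroup.centralizer {φ}) :=
    ((pgu n F q).comp Ψ).codRestrict _ fun g => by
      refine ⟨(mem_inndiag_iff _).2 ⟨_, rfl⟩,
        (comm_field_iff hF i hi hF₀ hr hq hσr hn hφ _).mpr ⟨Ψ g, 1, hfix _, by simp, ?_⟩⟩
      rw [show scalarGL (Fin n) (1 : Fˣ) = 1 from map_one _, mul_one]
  have hsurj : Function.Surjective Φ := by
    rintro ⟨β, hβ, hc⟩
    obtain ⟨g, rfl⟩ := (mem_inndiag_iff β).1 hβ
    obtain ⟨g₀, d, hg₀, hd, hg⟩ := (comm_field_iff hF i hi hF₀ hr hq hσr hn hφ g).mp hc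
    have hentry : ∀ a b, ∃ y, i y = ((g₀ : GL (Fin n) F) : Matrix (Fin n) (Fin n) F) a b :=
      fun a b => (hi _).mp (congrArg (fun g : GL (Fin n) F => (g : Matrix (Fin n) (Fin n) F) a b) hg₀)
    choose M hM using hentry
    have hMd : (Matrix.of M).map i = ((g₀ : GL (Fin n) F) : Matrix (Fin n) (Fin n) F) := Matrix.ext hM
    have hu : IsUnit (Matrix.of M).det := by
      refine isUnit_iff_ne_zero.mpr fun hz => ?_
      have h2 : ((Matrix.of M).map i).det = 0 := by
        rw [show (Matrix.of M).map i = i.mapMatrix (Matrix.of M) from rfl, ← RingHom.map_det, hz, map_zero]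
      rw [hMd] at h2
      exact Matrix.GeneralLinearGroup.det_ne_zero _ h2
    have hmap : Matrix.GeneralLinearGroup.map i (Matrix.GeneralLinearGroup.mk'' _ hu) = (g₀ : GL (Fin n) F) :=
      Units.ext hMd
    refine ⟨⟨Matrix.GeneralLinearGroup.mk'' _ hu,
      (map_mem_GU_iff hF i hF₀ hr hq _).1 (hmap ▸ g₀.2)⟩, Subtype.ext ?_⟩
    show pgu n F q (Ψ _) = pgu n F q g
    have hgg : g = g₀ * ⟨scalarGL _ d, (scalarGL_mem_GU hF (by omega) d).2 hd⟩ := Subtype.ext hg
    rw [hgg, map_mul,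
      show pgu n F q ⟨scalarGL _ d, (scalarGL_mem_GU hF (by omega) d).2 hd⟩ = 1 from
        (pgu_eq_one_iff hF hn).2 ⟨d, rfl⟩, mul_one]
    exact congrArg _ (Subtype.ext hmap)
  have hker : Φ.ker = (Cfsg.Geo.scalars (Fin n) F₀).subgroupOf (GU n F₀ q₀) := by
    ext g
    rw [MonoidHom.mem_ker, Subgroup.mem_subgroupOf, Cfsg.Geo.mem_scalars_iff]
    constructor
    · intro h
      obtain ⟨c, hc⟩ := (pgu_eq_one_iff hF hn).1 (congrArg Subtype.val h)
      change Matrix.GeneralLinearGroup.map i (g : GL (Fin n) F₀) = scalarGL _ c at hc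
      have hc0 : σ (c : F) = c := by
        have h5 := hfix (g : GL (Fin n) F₀)
        rw [hc, AutPSL.fieldMap_scalarGL] at h5
        exact congrArg Units.val (AutPSL.scalarGL_injective h5)
      obtain ⟨y, hy⟩ := (hi _).mp hc0
      have hy0 : y ≠ 0 := by rintro rfl; exact c.ne_zero (hy ▸ map_zero i)
      refine ⟨Units.mk0 y hy0, Matrix.ext fun a b => i.injective ?_⟩
      have h6 := congrArg (fun g : GL (Fin n) F => (g : Matrix (Fin n) (Fin n) F) a b) hc
      simp only [AutPSL.scalarGL_coe] at h6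
      refine (h6 : i _ = _).trans ?_
      by_cases hab : a = b <;> simp [hab, hy]
    · rintro ⟨c, hc⟩
      apply Subtype.ext
      refine (pgu_eq_one_iff hF hn).2 ⟨Units.map (i : F₀ →* F) c, Units.ext ?_⟩
      show ((g : GL (Fin n) F₀) : Matrix (Fin n) (Fin n) F₀).map i = _
      rw [hc, AutPSL.scalarGL_coe]
      ext a b
      by_cases hab : a = b <;> simp [hab]
  exact ⟨((QuotientGroup.quotientMulEquivOfEq hker.symm).trans
    (QuotientGroup.quotientKerEquivOfSurjective Φ hsurj)).symm⟩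

/-- Elements of order `r` in the coset of a standard field automorphism. -/
theorem field_coset (hn : 3 ≤ n) {φ δ : MulAut (PSU n F q)} (hφ : IsSemi 1 σ φ)
    (hδ : δ ∈ inndiagPSU n F q) (ho : orderOf (δ * φ) = r) :
    IsConjUnder (inndiagPSU n F q) φ (δ * φ) := by
  haveI : Nonempty (Fin n) := ⟨⟨0, by omega⟩⟩
  obtain ⟨g, rfl⟩ := (mem_inndiag_iff δ).1 hδ
  have hgφ := Induced.comp (normalises_psu (one_mem (GU n F q)) σ) (isSemi_pgu g) hφ
  rw [map_one, mul_one, one_mul] at hgφ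
  obtain ⟨hNU, hp⟩ := IsSemi.pow g.2 hgφ (orderOf σ)
  have hpw : (pgu n F q g * φ) ^ orderOf σ = 1 := by rw [hσr, ← ho, pow_orderOf_eq_one]
  rw [hpw, pow_orderOf_eq_one σ] at hp
  obtain ⟨-, u, hu⟩ := IsSemi.eq_one hF hn hNU hp
  have hu1 : (u : F) * (u : F) ^ q = 1 := (scalarGL_mem_GU hF (by omega) u).1 (hu ▸ hNU)
  have hfix : σ (u : F) = u := by
    have h1 := AutPSL.normGL_fixed σ (g : GL (Fin n) F) (pow_orderOf_eq_one σ)
    rw [hu, AutPSL.fieldMap_scalarGL, AutPSL.scalarGL_mul_comm u] at h1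
    exact congrArg Units.val (AutPSL.scalarGL_injective (mul_left_cancel h1))
  obtain ⟨d, hd, hd1⟩ := exists_norm_one_preimage hF i hi hF₀ hr hq (u := u⁻¹)
    (by rw [Units.val_inv_eq_inv_val, map_inv₀, hfix])
    (by rw [Units.val_inv_eq_inv_val, inv_pow, ← mul_inv, hu1, inv_one])
  have hdU : scalarGL (Fin n) d ∈ GU n F q := (scalarGL_mem_GU hF (by omega) d).2 hd1
  obtain ⟨h, hh, hgh⟩ := hilbert90_GU hF i hi hF₀ hr hq
    (g := (g : GL (Fin n) F) * scalarGL _ d) (mul_mem g.2 hdU) (by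
    rw [AutPSL.normGL_scalar, hu, AutPSL.normGL_scalarGL, hd, ← map_mul, mul_inv_cancel]; exact map_one _)
  have hinv1 : pgu n F q ⟨scalarGL _ d, hdU⟩ = 1 := (pgu_eq_one_iff hF hn).2 ⟨d, rfl⟩
  refine ⟨pgu n F q ⟨h, hh⟩, (mem_inndiag_iff _).2 ⟨_, rfl⟩, ?_⟩
  have e : g * ⟨scalarGL _ d, hdU⟩ =
      (⟨h, hh⟩ : GU n F q) * ⟨fieldMap σ h⁻¹, fieldMap_mem_GU (inv_mem hh) σ⟩ :=
    Subtype.ext (by
      show (g : GL (Fin n) F) * scalarGL _ d = h * fieldMap σ h⁻¹
      rw [map_inv]; exact hgh)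
  have e2 := congrArg (pgu n F q) e
  rw [map_mul, map_mul, hinv1, mul_one] at e2
  rw [e2, mul_assoc, mul_assoc]
  congr 1
  have h3 := semi_comm_pgu hF hφ (⟨h, hh⟩⁻¹ : GU n F q)
  rw [map_inv] at h3
  exact h3.symm

/-- The class of a standard field automorphism splits into `gcd(n, (q+1)/(q₀+1))` classes. -/
theorem splitClassCount_field (hn : 3 ≤ n) {φ : MulAut (PSU n F q)} (hφ : IsSemi 1 σ φ) :
    splitClassCount (inndiagPSU n F q) (Inn (PSU n F q)) φ = Nat.gcd n ((q + 1) / (q₀ + 1)) := by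
  classical
  let M : Subgroup Fˣ := (powMonoidHom (q + 1) : Fˣ →* Fˣ).ker
  haveI : IsCyclic M := inferInstance
  let dM : GU n F q →* M := (detGU : GU n F q →* Fˣ).codRestrict M fun g =>
    Units.ext (by simpa using det_norm hF g)
  let N : Subgroup M := (powMonoidHom n : M →* M).range
  have hdsurj : Function.Surjective dM := by
    rintro ⟨c, hc⟩
    obtain ⟨g, hg⟩ := Unitary.exists_det_eq hF (n := n) (by omega) (a := (c : F))
      (by simpa using congrArg Units.val hc)
    exact ⟨g, Subtype.ext (Units.ext hg)⟩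
  have hnorm : ∀ c : M, ((c : Fˣ) : F) * ((c : Fˣ) : F) ^ q = 1 := fun c => by
    rw [← pow_succ']; simpa using congrArg Units.val c.2
  have hscalar : ∀ c : M, dM ⟨scalarGL _ (c : Fˣ), (scalarGL_mem_GU hF (by omega) _).2 (hnorm c)⟩ = c ^ n := by
    intro c
    apply Subtype.ext
    show detGU (⟨scalarGL _ (c : Fˣ), _⟩ : GU n F q) = _
    show Matrix.GeneralLinearGroup.det (scalarGL (Fin n) (c : Fˣ)) = _
    rw [Matrix.GeneralLinearGroup.det_scalar, Fintype.card_fin]
    rfl
  have hker : (pgu n F q).ker ≤ N.comap dM := by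
    intro g hg
    obtain ⟨c, hc⟩ := (pgu_eq_one_iff hF hn).1 (MonoidHom.mem_ker.1 hg)
    have hc1 : (c : F) * (c : F) ^ q = 1 := (scalarGL_mem_GU hF (by omega) c).1 (hc ▸ g.2)
    refine ⟨⟨c, Units.ext (by simpa [pow_succ'] using hc1)⟩, ?_⟩
    rw [powMonoidHom_apply, ← hscalar]
    exact congrArg dM (Subtype.ext hc.symm)
  have hinn : Inn (PSU n F q) = (N.comap dM).map (pgu n F q) := by
    ext β
    constructor
    · rintro ⟨x, rfl⟩
      obtain ⟨s, rfl⟩ := piU_surjective x
      refine ⟨toGU s, ?_, pgu_rho s⟩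
      refine ⟨1, Subtype.ext (Units.ext ?_)⟩
      rw [powMonoidHom_apply, one_pow]
      exact s.1.2.symm
    · rintro ⟨g, hg, rfl⟩
      obtain ⟨c, hc⟩ := hg
      set sc : GU n F q := ⟨scalarGL _ (c : Fˣ), (scalarGL_mem_GU hF (by omega) _).2 (hnorm c)⟩
      have hd1 : detGU (g * sc⁻¹) = 1 := by
        have : dM (g * sc⁻¹) = 1 := by
          rw [map_mul, map_inv, hscalar]
          rw [powMonoidHom_apply] at hc
          rw [hc, mul_inv_cancel]
        exact congrArg Subtype.val this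
      obtain ⟨s, hs⟩ : g * sc⁻¹ ∈ (toGU : SU n F q →* GU n F q).range := by
        rw [range_toGU]; exact hd1
      refine ⟨piU n F q s, ?_⟩
      rw [← pgu_rho, hs, map_mul, map_inv,
        show pgu n F q sc = 1 from (pgu_eq_one_iff hF hn).2 ⟨_, rfl⟩, inv_one, mul_one]
  rw [← pgu_range, hinn]
  refine (splitClassCount_mod (pgu n F q) dM N hdsurj hker φ).trans ?_
  let M₀ : Subgroup M := ((powMonoidHom (q₀ + 1) : M →* M)).ker
  have hq0 := two_le_q hF₀
  have hdiv : q₀ + 1 ∣ q + 1 := by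
    have := hr.nat_add_dvd_pow_add_pow q₀ 1
    rwa [one_pow, ← hq] at this
  have hM0card : Nat.card M₀ = q₀ + 1 := by
    rw [IsCyclic.card_powMonoidHom_ker, card_norm_one_units hF, Nat.gcd_eq_right hdiv]
  have hMi : M₀.index = (q + 1) / (q₀ + 1) := by
    have h := M₀.card_mul_index
    rw [hM0card, card_norm_one_units hF] at h
    rw [← h, Nat.mul_div_cancel_left _ (by omega)]
  rw [← hMi, ← AutPSL.index_sup_powMonoidHom]
  have hfixd : ∀ g₀ : GU n F q, fieldMap σ (g₀ : GL (Fin n) F) = g₀ → dM g₀ ∈ M₀ := by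
    intro g₀ hg₀
    apply Subtype.ext
    show detGU g₀ ^ (q₀ + 1) = 1
    have hfix : σ (detGU g₀ : F) = detGU g₀ := by
      rw [coe_detGU]
      conv_rhs => rw [← hg₀]
      exact RingHom.map_det (σ : F →+* F) _
    obtain ⟨y, hy⟩ := (hi _).1 hfix
    apply Units.ext
    rw [Units.val_pow_eq_pow_val, pow_succ', ← hy, ← map_pow, ← map_pow_q hF i hF₀ hr hq, hy,
      ← pow_succ']
    exact det_norm hF g₀
  congr 1
  apply le_antisymm
  · refine sup_le ?_ le_sup_right
    rintro _ ⟨g, hg, rfl⟩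
    obtain ⟨g₀, c, hg₀, hc, hgc⟩ := (comm_field_iff hF i hi hF₀ hr hq hσr hn hφ g).mp hg
    let c' : M := ⟨c, Units.ext (by simpa [pow_succ'] using hc)⟩
    have : g = g₀ * ⟨scalarGL _ (c' : Fˣ), (scalarGL_mem_GU hF (by omega) _).2 (hnorm c')⟩ :=
      Subtype.ext hgc
    rw [this, map_mul, hscalar]
    exact Subgroup.mul_mem_sup (hfixd g₀ hg₀) ⟨c', rfl⟩
  · refine sup_le ?_ le_sup_right
    refine fun c hc => Subgroup.mem_sup_left ?_
    have hc0 : ((c : Fˣ) : F) ^ (q₀ + 1) = 1 := by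
      simpa using congrArg (fun z : M => (((z : M) : Fˣ) : F)) (MonoidHom.mem_ker.1 hc)
    have hcq : ((c : Fˣ) : F) ^ q₀ ^ 2 = (c : Fˣ) := by
      have hc1 : ((c : Fˣ) : F) ^ q₀ = ((c : Fˣ) : F)⁻¹ :=
        eq_inv_of_mul_eq_one_left (by rw [← pow_succ]; exact hc0)
      rw [sq, pow_mul, hc1, inv_pow, hc1, inv_inv]
    have hσc : σ ((c : Fˣ) : F) = (c : Fˣ) := by
      obtain ⟨y, hy⟩ : ∃ y, i y = ((c : Fˣ) : F) := by
        by_contra hne
        push Not at hne
        let P : Polynomial F := Polynomial.X ^ q₀ ^ 2 - Polynomial.X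
        have hdeg : P.natDegree = q₀ ^ 2 :=
          FiniteField.X_pow_card_sub_X_natDegree_eq F (by nlinarith)
        have hpos : 0 < q₀ ^ 2 := by positivity
        have hP0 : P ≠ 0 := fun hz => by
          rw [hz, Polynomial.natDegree_zero] at hdeg
          omega
        have hsub : insert ((c : Fˣ) : F) (Finset.univ.image i) ⊆ P.roots.toFinset := by
          intro x hx
          rw [Multiset.mem_toFinset, Polynomial.mem_roots hP0]
          simp only [P, Polynomial.IsRoot, Polynomial.eval_sub, Polynomial.eval_pow,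
            Polynomial.eval_X]
          rcases Finset.mem_insert.1 hx with rfl | hx
          · rw [hcq, sub_self]
          · obtain ⟨y, -, rfl⟩ := Finset.mem_image.1 hx
            rw [← map_pow, ← hF₀, FiniteField.pow_card, sub_self]
        have hcard := (Finset.card_le_card hsub).trans
          ((Multiset.toFinset_card_le _).trans (Polynomial.card_roots' P))
        rw [Finset.card_insert_of_notMem (by simpa using hne),
          Finset.card_image_of_injective _ i.injective, Finset.card_univ, hF₀, hdeg] at hcard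
        omega
      exact (hi _).2 ⟨y, hy⟩
    obtain ⟨A, hdet, hA⟩ := exists_diagonal hF
      (fun j : Fin n => if j = ⟨0, by omega⟩ then ((c : Fˣ) : F) else 1)
      fun j => by
        split
        · exact hnorm c
        · simp
    have hfixA : fieldMap σ (A : GL (Fin n) F) = A := by
      refine Units.ext (Matrix.ext_of_mulVec_single fun k => ?_)
      have h1 := app_act (1 : GL (Fin n) F) σ (A : GL (Fin n) F) (Pi.single k 1)
      simp only [AutPSL.act_apply, one_mul, inv_one, mul_one] at h1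
      have h2 : app (1 : GL (Fin n) F) σ (Pi.single k (1 : F)) = Pi.single k 1 := by
        funext j
        rw [app, one_smul]
        by_cases hj : j = k <;> simp [hj]
      rw [h2] at h1
      refine h1.trans ?_
      rw [app, one_smul]
      have hA' := hA (Pi.single k (1 : F))
      change (A : GL (Fin n) F) • (Pi.single k (1 : F) : Fin n → F) = _ at hA'
      refine Eq.trans ?_ hA'.symm
      rw [hA']
      funext j
      simp only [Function.comp_apply, map_mul]
      congr 1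
      · split
        · exact hσc
        · exact map_one σ
      · by_cases hj : j = k <;> simp [hj]
    refine ⟨A, ?_, ?_⟩
    · refine (comm_field_iff hF i hi hF₀ hr hq hσr hn hφ A).mpr ⟨A, 1, hfixA, by simp, ?_⟩
      rw [show scalarGL (Fin n) (1 : Fˣ) = 1 from map_one _, mul_one]
    · apply Subtype.ext
      apply Units.ext
      show (detGU A : F) = _
      rw [coe_detGU, hdet, Finset.prod_ite_eq' Finset.univ _ fun _ => ((c : Fˣ) : F),
        if_pos (Finset.mem_univ _)]

omit hi hF₀ hr hq hσr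

/-- Field automorphisms of prime order. -/
theorem field_setup {p f : ℕ} (hp : p.Prime) (hqf : q = p ^ f) (hf : 1 ≤ f) (hn : 3 ≤ n)
    (x : MulAut (PSU n F q)) (hx : IsFieldAutClassPSU x) {r : ℕ} (hxr : orderOf x = r) :
    ∃ (α φ : MulAut (PSU n F q)) (σ : F ≃+* F), IsSemi 1 σ φ ∧ orderOf σ = r ∧ Odd r ∧ r ∣ f ∧
      Nat.card {y : F // σ y = y} = p ^ (2 * (f / r)) ∧ q = (p ^ (f / r)) ^ r ∧
      α * x * α⁻¹ = φ := by
  obtain ⟨α, φ, σ, -, hodd, hφ, hα⟩ := hx
  have hφ' := (isFieldAut_iff σ φ).1 hφ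
  have hσ : orderOf σ = r := by rw [← orderOf_std hF hn hφ', ← hα, AutPSL.orderOf_conj', hxr]
  rw [hσ] at hodd
  have hF' : Fintype.card F = p ^ (2 * f) := by rw [hF, hqf, ← pow_mul, mul_comm]
  obtain ⟨hdvd, hcard⟩ := AutPSL.card_fixed_eq hσ hp hF' (by omega)
  have hrf : r ∣ f := (Nat.Coprime.dvd_of_dvd_mul_left (Nat.coprime_two_right.2 hodd) hdvd)
  refine ⟨α, φ, σ, hφ', hσ, hodd, hrf, ?_, ?_, hα⟩
  · rw [hcard, Nat.mul_div_assoc 2 hrf]
  · rw [hqf, ← pow_mul, Nat.div_mul_cancel hrf]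

end Cfsg.Agent.AutPSU
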