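import Mathlib
import Cfsg.Agent.AutPSU.Centralizer
import Cfsg.Agent.AutPSL.Centralizer
import Cfsg.Agent.AutPSL.Coset

/-!
Field automorphisms of `PSU_n(q)` of prime order (helper60).
-/

set_option autoImplicit false

namespace Cfsg.Agent.AutPSU

open Matrix Cfsg.Agent.Unitary

universe u v

variable {n : ℕ} {F : Type u} [Field F] [Fintype F] {q p f : ℕ}

theorem field_class (hq : q = p ^ f) (hf : 1 ≤ f) (hF : Fintype.card F = q ^ 2) (hp : p.Prime)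
    (hn : 3 ≤ n) (h32 : ¬ (n = 3 ∧ q = 2)) (x : MulAut (PSU n F q)) (hx : IsFieldAutClassPSU x)
    {r : ℕ} (hxr : orderOf x = r) (F₀ : Type v) [Field F₀] [Fintype F₀]
    (hF₀ : Fintype.card F₀ = p ^ (2 * (f / r))) :
    r ∣ f ∧ Nonempty (↥(inndiagPSU n F q ⊓ Subgroup.centralizer {x}) ≃* PGU n F₀ (p ^ (f / r))) ∧
      splitClassCount (inndiagPSU n F q) (Inn (PSU n F q)) x =
        Nat.gcd n ((q + 1) / (p ^ (f / r) + 1)) := by
  obtain ⟨α, φ, σ, hφ, hσ, hodd, hrf, hcard, hqr, hα⟩ := field_setup hF hp hq hf hn x hx hxr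
  obtain ⟨i, hi⟩ := AutPSL.exists_fixed_embedding σ F₀ (hF₀.trans hcard.symm)
  have hF₀' : Fintype.card F₀ = (p ^ (f / r)) ^ 2 := by rw [hF₀, ← pow_mul, mul_comm]
  obtain ⟨e2⟩ := exists_centralizer_equiv hF i hi hF₀' hodd hqr hσ hn hφ
  have h3 := splitClassCount_field hF i hi hF₀' hodd hqr hσ hn hφ
  have hH : ∀ α : MulAut (PSU n F q), ∀ d ∈ inndiagPSU n F q, α * d * α⁻¹ ∈ inndiagPSU n F q :=
    fun α d hd => conj_inndiag hF hn h32 α hd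
  obtain ⟨e⟩ := AutPSL.centralizer_conj_equiv (inndiagPSU n F q) hH α x
  rw [← hα, AutPSL.splitClassCount_conj (X := MulAut (PSU n F q)) _ _ hH
    (fun α d hd => AutPSL.inn_conj α d hd)] at h3
  rw [← hα] at e2
  exact ⟨hrf, ⟨e.trans e2⟩, h3⟩

theorem coset_order_iff (hq : q = p ^ f) (hf : 1 ≤ f) (hF : Fintype.card F = q ^ 2) (hp : p.Prime)
    (hn : 3 ≤ n) (h32 : ¬ (n = 3 ∧ q = 2)) (x δ : MulAut (PSU n F q)) (hx : IsFieldAutClassPSU x)
    {r : ℕ} (hxr : orderOf x = r) (hδ : δ ∈ inndiagPSU n F q) :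
    orderOf (δ * x) = r ↔ IsConjUnder (inndiagPSU n F q) x (δ * x) := by
  classical
  refine ⟨fun ho => ?_, fun ⟨h, _, he⟩ => by rw [he, AutPSL.orderOf_conj', hxr]⟩
  obtain ⟨α, φ, σ, hφ, hσ, hodd, -, hcard, hqr, hα⟩ := field_setup hF hp hq hf hn x hx hxr
  let L : Subfield F := σ.toRingHom.eqLocusField (RingHom.id F)
  haveI : Fintype L := Fintype.ofFinite L
  have hi : ∀ y : F, σ y = y ↔ ∃ z, L.subtype z = y :=
    fun y => ⟨fun h => ⟨⟨y, h⟩, rfl⟩, fun ⟨z, hz⟩ => hz ▸ z.2⟩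
  have hF₀ : Fintype.card L = (p ^ (f / r)) ^ 2 := by
    rw [← Nat.card_eq_fintype_card, ← pow_mul, mul_comm, ← hcard]
    rfl
  have hH : ∀ α : MulAut (PSU n F q), ∀ d ∈ inndiagPSU n F q, α * d * α⁻¹ ∈ inndiagPSU n F q :=
    fun α d hd => conj_inndiag hF hn h32 α hd
  rw [AutPSL.isConjUnder_conj_iff hH α]
  have hsplit : α * (δ * x) * α⁻¹ = (α * δ * α⁻¹) * (α * x * α⁻¹) := by group
  rw [hsplit, hα]
  apply field_coset hF L.subtype hi hF₀ hodd hqr hσ hn hφ (hH α δ hδ)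
  rw [← hα, ← hsplit, AutPSL.orderOf_conj', ho]

end Cfsg.Agent.AutPSU
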